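import Groth.Agent.CubicPfaff.TPoints
import Groth.Agent.EckardtL.Tensor
import Mathlib.Algebra.MvPolynomial.NoZeroDivisors
import Mathlib.Algebra.Module.Submodule.Union
import Mathlib.Tactic

/-!
# Lines and T-points on a cubic surface, via the symmetric trilinear form
-/

set_option autoImplicit false
set_option linter.unusedSectionVars false
set_option linter.style.haveILetI false

universe u

open MvPolynomial Module

namespace CubicDeg3

variable {K : Type u} [Field K] [CharZero K] {F : MvPolynomial (Fin 4) K} (D : EckardtLib.CubicTensor F)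

local notation "V" => Fin 4 → K

/-- Expansion of `F` on a line. -/
theorem expand (u v : V) (s r : K) :
    eval (s • u + r • v) F =
      s ^ 3 * D.T u u u + 3 * (s ^ 2 * r) * D.T u u v + 3 * (s * r ^ 2) * D.T u v v + r ^ 3 * D.T v v v := by
  rw [D.eval_eq]
  simp only [map_add, map_smul, LinearMap.add_apply, LinearMap.smul_apply, smul_eq_mul]
  rw [D.swap₁ v u u, D.swap₂ u v u, D.swap₁ v u v, D.swap₂ v v u, D.swap₁ v u v]
  ring

/-- `v` is a singular point. -/
def Sing (v : V) : Prop := ∀ w, D.T v v w = 0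

/-- A point of the surface through which no line of the surface passes. -/
def NoLine (F : MvPolynomial (Fin 4) K) (b : V) : Prop :=
  b ≠ 0 ∧ eval b F = 0 ∧ ∀ v : V, v ∉ Submodule.span K {b} → ∃ s r : K, eval (s • b + r • v) F ≠ 0

theorem sing_iff (v : V) : Sing D v ↔ ∀ i, eval v (pderiv i F) = 0 := by
  constructor
  · intro h i
    have := D.grad_eq v (Pi.single i 1)
    rw [h, mul_zero] at this
    simpa [Pi.single_apply] using this
  · intro h w
    have := D.grad_eq v w
    simp only [h, mul_zero, Finset.sum_const_zero] at this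
    exact (mul_eq_zero.mp this.symm).resolve_left (by norm_num)

theorem Sing.eval_eq_zero {v : V} (h : Sing D v) : eval v F = 0 := by rw [D.eval_eq]; exact h v

theorem Sing.smul {v : V} (h : Sing D v) (c : K) : Sing D (c • v) := fun w => by simp [h w]

theorem tangent_form (b y : V) :
    eval y (∑ i : Fin 4, C (eval b (pderiv i F)) * X i) = 3 * D.T b b y := by
  rw [← D.grad_eq b y]
  simp [mul_comm]

theorem exists_linear {L : MvPolynomial (Fin 4) K} (hL : L.IsHomogeneous 1) :
    ∃ f : V →ₗ[K] K, ∀ x, eval x L = f x :=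
  CubicPfaff.exists_linear hL

/-- Being a T-point, in terms of functions on the tangent plane. -/
theorem isT_eval {b : V} (h : CubicPfaff.IsT F b) :
    ∃ f₁ f₂ f₃ : V →ₗ[K] K, ∀ y, D.T b b y = 0 → eval y F = f₁ y * f₂ y * f₃ y := by
  obtain ⟨L₁, L₂, L₃, h1, h2, h3, hmem⟩ := h
  obtain ⟨f₁, e1⟩ := exists_linear h1
  obtain ⟨f₂, e2⟩ := exists_linear h2
  obtain ⟨f₃, e3⟩ := exists_linear h3
  obtain ⟨g, hg⟩ := Ideal.mem_span_singleton'.1 hmem
  refine ⟨f₁, f₂, f₃, fun y hy => ?_⟩
  have := congrArg (eval y) hg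
  rw [map_mul, tangent_form D, hy, mul_zero, mul_zero, map_sub, map_mul, map_mul, e1, e2, e3] at this
  linear_combination -this

theorem exists_indep_of_two_le {b : V} {W : Submodule K V} (hW : 2 ≤ finrank K W) :
    ∃ v ∈ W, v ∉ Submodule.span K {b} := by
  by_contra h
  push Not at h
  have h1 := Submodule.finrank_mono (h : W ≤ Submodule.span K {b})
  have h2 : finrank K (Submodule.span K {b}) ≤ 1 := by simpa using finrank_span_le_card (R := K) ({b} : Set V)
  omega

include D in
/-- A point through which no line of the surface passes is not a T-point. -/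
theorem NoLine.not_isT {b : V} (hb : NoLine F b) : ¬ CubicPfaff.IsT F b := by
  rintro hT
  obtain ⟨hb0, hbF, hline⟩ := hb
  obtain ⟨f₁, f₂, f₃, hf⟩ := isT_eval D hT
  have hlb : D.T b b b = 0 := by rw [← D.eval_eq]; exact hbF
  have key : ∀ g : V →ₗ[K] K, g b = 0 → (∀ y, D.T b b y = 0 → g y = 0 → eval y F = 0) → False := by
    intro g hg hz
    let W : Submodule K V := LinearMap.ker ((D.T b b).prod g)
    have hW : 2 ≤ finrank K W := by
      have h1 := LinearMap.finrank_range_add_finrank_ker ((D.T b b).prod g)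
      have h2 := Submodule.finrank_le (LinearMap.range ((D.T b b).prod g))
      rw [finrank_prod, finrank_self] at h2
      rw [Module.finrank_fin_fun] at h1
      show 2 ≤ finrank K ↥(LinearMap.ker ((D.T b b).prod g))
      omega
    obtain ⟨v, hvW, hv⟩ := exists_indep_of_two_le (b := b) hW
    simp [W, LinearMap.mem_ker, Prod.ext_iff] at hvW
    obtain ⟨s, r, hsr⟩ := hline v hv
    exact hsr (hz _ (by simp [hlb, hvW.1]) (by simp [hg, hvW.2]))
  have h0 := hf b hlb
  rw [hbF] at h0
  rcases mul_eq_zero.1 h0.symm with h | h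
  · rcases mul_eq_zero.1 h with h | h
    · exact key f₁ h fun y hy hy' => by rw [hf y hy, hy', zero_mul, zero_mul]
    · exact key f₂ h fun y hy hy' => by rw [hf y hy, hy', mul_zero, zero_mul]
  · exact key f₃ h fun y hy hy' => by rw [hf y hy, hy', mul_zero]

include D in
/-- A form vanishing on a hyperplane is reducible. -/
theorem false_of_hyperplane (hF : F.IsHomogeneous 3) (hirr : Irreducible F) {g : V →ₗ[K] K} {u : V}
    (hu : g u = 1) (h : ∀ y, g y = 0 → eval y F = 0) : False := by
  haveI : Infinite K := Infinite.of_injective (fun n : ℕ => (n : K)) Nat.cast_injective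
  let p : V → MvPolynomial (Fin 4) K := fun w => ∑ i, ∑ j, C (D.T (Pi.single i 1) (Pi.single j 1) w) * (X i * X j)
  have hp : ∀ y w, eval y (p w) = D.T y y w := fun y w => by
    conv_rhs => rw [pi_eq_sum_univ' y]
    simp only [map_sum, map_smul, LinearMap.sum_apply, LinearMap.smul_apply, smul_eq_mul, p, map_mul, eval_C, eval_X,
      Finset.mul_sum]
    exact Finset.sum_congr rfl fun i _ => Finset.sum_congr rfl fun j _ => by rw [D.swap₁ (Pi.single i 1)]; ring
  let l := CubicPfaff.lform g
  let m := CubicPfaff.lform ((D.T u u) : V →ₗ[K] K)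
  have hfac : F = l * (C 3 * p u - C 3 * l * m + C (D.T u u u) * l ^ 2) := by
    refine MvPolynomial.funext fun y => ?_
    simp only [map_mul, map_add, map_sub, map_pow, eval_C, l, m, CubicPfaff.eval_lform, hp]
    have h0 := h (y - g y • u) (by simp [hu])
    rw [show y - g y • u = (1 : K) • y + (-g y) • u by simp [sub_eq_add_neg], expand D] at h0
    rw [D.eval_eq, D.swap₂ y u u, D.swap₁ y u u, D.swap₂ u y u] at *
    linear_combination h0
  have hl0 : l ≠ 0 := fun h0 => by
    have := congrArg (eval u) h0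
    rw [CubicPfaff.eval_lform, hu, map_zero] at this
    exact one_ne_zero this
  have hlu : ¬ IsUnit l := fun hl => by
    have h1 := (MvPolynomial.isUnit_iff_totalDegree_of_isReduced.1 hl).2
    rw [(CubicPfaff.isHomogeneous_lform g).totalDegree hl0] at h1
    exact one_ne_zero h1
  rcases hirr.isUnit_or_isUnit hfac with h' | h'
  · exact hlu h'
  · set q := C 3 * p u - C 3 * l * m + C (D.T u u u) * l ^ 2
    have h1 := (MvPolynomial.isUnit_iff_totalDegree_of_isReduced.1 h').2
    have h2 := congrArg MvPolynomial.totalDegree hfac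
    rw [MvPolynomial.totalDegree_mul_of_isDomain hl0 h'.ne_zero, h1, (CubicPfaff.isHomogeneous_lform g).totalDegree hl0,
      hF.totalDegree hirr.ne_zero] at h2
    omega

theorem exists_quadratic_zero [IsAlgClosed K] (A B C₀ : K) : ∃ s r : K, (s ≠ 0 ∨ r ≠ 0) ∧ s ^ 2 * A + 2 * (s * r) * B + r ^ 2 * C₀ = 0 := by
  by_cases hA : A = 0
  · exact ⟨1, 0, Or.inl one_ne_zero, by rw [hA]; ring⟩
  · obtain ⟨x, hx⟩ := IsAlgClosed.exists_eq_mul_self (B ^ 2 - A * C₀)
    exact ⟨(-B + x) / A, 1, Or.inr one_ne_zero, by field_simp; linear_combination -hx⟩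

/-- If the gradient is proportional to one functional along a line, the surface is singular on it. -/
theorem exists_sing_of_const [IsAlgClosed K] {a c : V} (hind : LinearIndependent K ![a, c])
    (φ : V →ₗ[K] K) {w₀ : V} (hw₀ : φ w₀ = 1) (h : ∀ s r : K, ∀ w, φ w = 0 → D.T (s • a + r • c) (s • a + r • c) w = 0) :
    ∃ b : V, b ≠ 0 ∧ Sing D b := by
  obtain ⟨s, r, hne, h0⟩ := exists_quadratic_zero (D.T a a w₀) (D.T a c w₀) (D.T c c w₀)
  refine ⟨s • a + r • c, fun h' => ?_, fun w => ?_⟩
  · obtain ⟨h1, h2⟩ := LinearIndependent.pair_iff.1 hind s r h'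
    exact hne.elim (· h1) (· h2)
  · have hw := h s r (w - φ w • w₀) (by simp [hw₀])
    have e : D.T (s • a + r • c) (s • a + r • c) w₀ = 0 := by
      simp only [map_add, map_smul, LinearMap.add_apply, LinearMap.smul_apply, smul_eq_mul]
      rw [D.swap₁ c a w₀]
      linear_combination h0
    rw [map_sub, map_smul, e, smul_zero, sub_zero] at hw
    exact hw

end CubicDeg3
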