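import Groth.Agent.CubicDeg3Lib.Open
import Groth.Agent.S16349
import Mathlib.FieldTheory.Galois.Infinite
import Mathlib.FieldTheory.IsAlgClosed.AlgebraicClosure
import Mathlib.FieldTheory.IntermediateField.Adjoin.Basic

/-!
# Pfaffian representations over an extension of degree at most three
-/

set_option autoImplicit false
set_option linter.unusedSectionVars false
set_option linter.style.haveILetI false

universe u v

open MvPolynomial Module CubicPfaff

namespace CubicDeg3

variable {k : Type u} [Field k] [CharZero k] {F : MvPolynomial (Fin 4) k}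

local notation "KK" => AlgebraicClosure k
local notation "FK" => MvPolynomial.map (algebraMap k (AlgebraicClosure k)) F

theorem aeval_alg {A : Type*} [CommRing A] [Algebra k A] (x : Fin 4 → k) (p : MvPolynomial (Fin 4) k) :
    aeval (fun m => algebraMap k A (x m)) p = algebraMap k A (eval x p) := by
  rw [← aeval_k]
  exact MvPolynomial.aeval_algebraMap_apply A x p

theorem not_isT_of_sing {L : Type u} [Field L] [CharZero L] {G : MvPolynomial (Fin 4) L}
    (hirr : Irreducible G) {a : Fin 4 → L} (ha : ∀ i, eval a (pderiv i G) = 0) : ¬ IsT G a := by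
  rintro ⟨L₁, L₂, L₃, h1, h2, h3, hmem⟩
  simp only [ha, map_zero, zero_mul, Finset.sum_const_zero, Ideal.span_singleton_zero, Ideal.mem_bot, sub_eq_zero] at hmem
  exact not_irreducible_mul (m := 1) (n := 0) (h1.mul h2) h3 (hmem ▸ hirr)

theorem fixed_rational {v : Fin 4 → KK} (h : ∀ σ : KK ≃ₐ[k] KK, (fun m => σ (v m)) = v) :
    ∃ w : Fin 4 → k, ∀ m, algebraMap k KK (w m) = v m := by
  have : ∀ m, ∃ x, algebraMap k KK x = v m := fun m =>
    (InfiniteGalois.mem_range_algebraMap_iff_fixed (v m)).2 fun σ => congrFun (h σ) m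
  choose w hw using this
  exact ⟨w, hw⟩

theorem eval_galois (σ : KK ≃ₐ[k] KK) (p : MvPolynomial (Fin 4) k) (v : Fin 4 → KK) :
    eval (fun m => σ (v m)) (MvPolynomial.map (algebraMap k KK) p) = σ (eval v (MvPolynomial.map (algebraMap k KK) p)) := by
  rw [eval_map, eval_map, ← MvPolynomial.aeval_def, ← MvPolynomial.aeval_def]
  exact (map_aeval' σ.toAlgHom p v).symm

theorem aeval_linePoly (hF : F.IsHomogeneous 3) (u v : Fin 4 → k) {A : Type*} [CommRing A] [Algebra k A] (s : A) :
    Polynomial.aeval s (Polynomial.C (eval v F) + Polynomial.X * Polynomial.C (polar F v u) +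
      Polynomial.X ^ 2 * Polynomial.C (polar F u v) + Polynomial.X ^ 3 * Polynomial.C (eval u F)) =
      aeval (fun m => algebraMap k A (v m) + s * algebraMap k A (u m)) F := by
  have hof : ∀ x : k, algebraMap k A x = Algebra.ofId k A x := fun x => rfl
  rw [taylor hF, aeval_alg, aeval_alg]
  simp only [hof, ← map_polar]
  simp [Algebra.ofId_apply]
  ring

theorem rational_point_or_line (hF : F.IsHomogeneous 3) (hirr : Irreducible FK) :
    (∃ a : Fin 4 → k, a ≠ 0 ∧ eval a F = 0 ∧ ¬ IsT FK (fun m => algebraMap k KK (a m))) ∨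
    ∃ (u v : Fin 4 → k) (p : Polynomial k), p.natDegree = 3 ∧
      (∀ (A : Type v) [CommRing A] [Algebra k A] (s : A), Polynomial.aeval s p =
        aeval (fun m => algebraMap k A (v m) + s * algebraMap k A (u m)) F) ∧
      ∀ s : KK, Polynomial.aeval s p = 0 → (fun m => algebraMap k KK (v m) + s * algebraMap k KK (u m)) ≠ 0 ∧
        ¬ IsT FK (fun m => algebraMap k KK (v m) + s * algebraMap k KK (u m)) := by
  have hFK : (FK).IsHomogeneous 3 := hF.map _
  obtain ⟨D⟩ := EckardtLib.exists_cubicTensor hFK
  haveI : Infinite k := Infinite.of_injective (fun n : ℕ => (n : k)) Nat.cast_injective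
  have hsσ : ∀ (σ : KK ≃ₐ[k] KK) (v : Fin 4 → KK), Sing D v → Sing D (fun m => σ (v m)) := fun σ v hv => by
    rw [sing_iff] at hv ⊢
    intro i
    rw [pderiv_map, eval_galois, ← pderiv_map, hv i, map_zero]
  have rat : ∀ v : Fin 4 → KK, v ≠ 0 → Sing D v → (∀ σ : KK ≃ₐ[k] KK, (fun m => σ (v m)) = v) →
      ∃ a : Fin 4 → k, a ≠ 0 ∧ eval a F = 0 ∧ ¬ IsT FK (fun m => algebraMap k KK (a m)) := by
    intro v hv hs hσ
    obtain ⟨w, hw⟩ := fixed_rational hσ
    have hwv : (fun m => algebraMap k KK (w m)) = v := funext hw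
    refine ⟨w, fun h => hv (by rw [← hwv, h]; simp; rfl), ?_, ?_⟩
    · refine (algebraMap k KK).injective ?_
      have := hs.eval_eq_zero D
      rwa [← hwv, eval_map, ← MvPolynomial.aeval_def, aeval_alg,
        ← map_zero (algebraMap k KK)] at this
    · rw [hwv]; exact not_isT_of_sing hirr ((sing_iff D v).1 hs)
  rcases trichotomy D hFK hirr with ⟨a, G, haF, haG, hG⟩ | ⟨a, c, hind, hS⟩ | ⟨a, ha, hS⟩
  · right
    obtain ⟨u, hu⟩ : ∃ u : Fin 4 → k, eval u F ≠ 0 := by
      by_contra h
      push Not at h
      exact hirr.ne_zero (by rw [show F = 0 from MvPolynomial.funext fun x => by rw [h, map_zero], map_zero])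
    have huK : eval (fun m => algebraMap k KK (u m)) FK ≠ 0 := by
      rw [eval_map, ← MvPolynomial.aeval_def, aeval_alg]
      exact (map_ne_zero _).2 hu
    obtain ⟨R, hR0, hRl, hR⟩ := exists_resultant D hFK hirr huK haF haG
    obtain ⟨v, hv⟩ : ∃ v : Fin 4 → k, eval (fun m => algebraMap k KK (v m)) R ≠ 0 := by
      by_contra h
      push Not at h
      refine hR0 (MvPolynomial.funext_set (fun _ => Set.range (algebraMap k KK))
        (fun _ => Set.infinite_range_of_injective (algebraMap k KK).injective) fun x hx => ?_)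
      choose v hv using fun m => hx m (Set.mem_univ m)
      rw [map_zero, ← h v, funext hv]
    let p : Polynomial k := Polynomial.C (eval v F) + Polynomial.X * Polynomial.C (polar F v u) +
      Polynomial.X ^ 2 * Polynomial.C (polar F u v) + Polynomial.X ^ 3 * Polynomial.C (eval u F)
    refine ⟨u, v, p, ?_, fun A _ _ s => aeval_linePoly hF u v s, fun s hs => ?_⟩
    · simp only [p]
      rw [show Polynomial.X ^ 3 * Polynomial.C (eval u F) = Polynomial.C (eval u F) * Polynomial.X ^ 3 by ring,
        show Polynomial.X ^ 2 * Polynomial.C (polar F u v) = Polynomial.C (polar F u v) * Polynomial.X ^ 2 by ring,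
        show Polynomial.X * Polynomial.C (polar F v u) = Polynomial.C (polar F v u) * Polynomial.X by ring]
      compute_degree!
    · rw [aeval_linePoly hF u v s] at hs
      have hx : eval (fun m => algebraMap k KK (v m) + s * algebraMap k KK (u m)) FK = 0 := by
        rw [eval_map, ← MvPolynomial.aeval_def, hs]
      exact hG _ hx fun hxG => hv (by
        have := hR _ hx hxG
        rwa [show (fun m => algebraMap k KK (v m) + s * algebraMap k KK (u m)) =
          (fun m => algebraMap k KK (v m)) + s • (fun m => algebraMap k KK (u m)) from rfl, hRl] at this)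
  · left
    have hc0 : c ≠ 0 := by simpa using hind.ne_zero 1
    obtain ⟨i, hi⟩ := Function.ne_iff.1 hc0
    let w := c i • a - a i • c
    have hw : w ≠ 0 := fun h => hi (LinearIndependent.pair_iff.1 hind (c i) (-(a i)) (by rw [← h]; simp [w]; abel)).1
    obtain ⟨j, hj⟩ := Function.ne_iff.1 hw
    let x := (w j)⁻¹ • w
    have hxi : x i = 0 := by simp [x, w]; ring_nf; simp
    have hxj : x j = 1 := by
      show (w j)⁻¹ * w j = 1
      exact inv_mul_cancel₀ hj
    have hxS : Sing D x := Sing.smul D ((hS w).2 (Submodule.mem_span_pair.2 ⟨c i, -(a i), by simp [w]; abel⟩)) _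
    refine rat x (fun h => by rw [h] at hxj; exact zero_ne_one hxj) hxS fun σ => ?_
    obtain ⟨p, q, hpq⟩ := Submodule.mem_span_pair.1 ((hS _).1 (hsσ σ x hxS))
    have h1 : p * a i + q * c i = 0 := by
      have := congrFun hpq i
      simp [hxi] at this
      exact this
    have hy : (fun m => σ (x m)) = (p / c i) • w := by
      rw [← hpq]
      have hci : c i ≠ 0 := hi
      funext m
      simp [w]
      field_simp
      linear_combination c m * h1
    have h2 : (p / c i) * w j = 1 := by
      have := congrFun hy j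
      simp [hxj] at this
      rw [← this]
    rw [hy]
    simp only [x]
    rw [eq_inv_of_mul_eq_one_left h2]
  · left
    obtain ⟨i, hi⟩ := Function.ne_iff.1 ha
    let x := (a i)⁻¹ • a
    have hxi : x i = 1 := by show (a i)⁻¹ * a i = 1; exact inv_mul_cancel₀ hi
    have hxS : Sing D x := (hS x).2 (Submodule.smul_mem _ _ (Submodule.mem_span_singleton_self a))
    refine rat x (fun h => by rw [h] at hxi; exact zero_ne_one hxi) hxS fun σ => ?_
    obtain ⟨r, hr⟩ := Submodule.mem_span_singleton.1 ((hS _).1 (hsσ σ x hxS))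
    have h2 : r * a i = 1 := by
      have := congrFun hr i
      simpa [hxi] using this
    rw [← hr]
    simp only [x]
    rw [eq_inv_of_mul_eq_one_left h2]

/-- A good point over a finite extension gives a representation there. -/
theorem rep_of_point (hF : F.IsHomogeneous 3) (hirr : Irreducible FK)
    (hcone : ¬ ∃ v : Fin 4 → k, v ≠ 0 ∧ ∑ i : Fin 4, v i • MvPolynomial.pderiv i F = 0)
    {E : Type v} [Field E] [Algebra k E] [Algebra.IsAlgebraic k E] (j : E →ₐ[k] KK) (a : Fin 4 → E) (ha : a ≠ 0)
    (hFa : aeval a F = 0) (hT : ¬ IsT FK (fun m => j (a m))) :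
    ∃ M : Matrix (Fin 6) (Fin 6) (MvPolynomial (Fin 4) E), (∀ i i', (M i i').IsHomogeneous 1) ∧ M.transpose = -M ∧
      (∀ i, M i i = 0) ∧ ∃ c : E, c ≠ 0 ∧ M.det = MvPolynomial.C c * (MvPolynomial.map (algebraMap k E) F) ^ 2 := by
  classical
  haveI : CharZero E := charZero_of_injective_algebraMap (algebraMap k E).injective
  letI : Algebra E KK := j.toRingHom.toAlgebra
  haveI : IsScalarTower k E KK := IsScalarTower.of_algebraMap_eq fun x => (j.commutes x).symm
  haveI : Algebra.IsAlgebraic E KK := Algebra.IsAlgebraic.tower_top (K := k) E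
  haveI : IsAlgClosure E KK := ⟨inferInstance, inferInstance⟩
  let e : AlgebraicClosure E ≃ₐ[E] KK := IsAlgClosure.equiv E (AlgebraicClosure E) KK
  have hcomp : MvPolynomial.map e.toRingEquiv.toRingHom
      (MvPolynomial.map (algebraMap E (AlgebraicClosure E)) (MvPolynomial.map (algebraMap k E) F)) = FK := by
    rw [MvPolynomial.map_map, MvPolynomial.map_map]
    exact congrArg (fun f => MvPolynomial.map f F)
      (RingHom.ext fun x => (e.commutes (algebraMap k E x)).trans (j.commutes x))
  refine Groth.Agent.S16349.result E (MvPolynomial.map (algebraMap k E) F) (hF.map _) ?_ ?_ a ha ?_ _ rfl ?_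
  · have : MvPolynomial.mapEquiv (Fin 4) e.toRingEquiv
        (MvPolynomial.map (algebraMap E (AlgebraicClosure E)) (MvPolynomial.map (algebraMap k E) F)) = FK := hcomp
    rw [← this, MulEquiv.irreducible_iff] at hirr
    exact hirr
  · rintro ⟨v, hv, hsum⟩
    obtain ⟨i₀, hi₀⟩ := Function.ne_iff.1 hv
    obtain ⟨φ, hφ⟩ := Module.Projective.exists_dual_ne_zero k hi₀
    refine hcone ⟨fun i => φ (v i), fun h => hφ (congrFun h i₀), MvPolynomial.ext _ _ fun n => ?_⟩
    have h := congrArg (fun q => φ (MvPolynomial.coeff n q)) hsum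
    simp only [MvPolynomial.coeff_sum, MvPolynomial.coeff_smul, pderiv_map, MvPolynomial.coeff_map, map_sum, smul_eq_mul,
      MvPolynomial.coeff_zero, map_zero] at h ⊢
    rw [← h]
    refine Finset.sum_congr rfl fun i _ => ?_
    rw [mul_comm (v i), ← Algebra.smul_def, map_smul, smul_eq_mul, mul_comm]
  · rw [eval_map, ← MvPolynomial.aeval_def, hFa]
  · rintro ⟨L₁, L₂, L₃, h1, h2, h3, hmem⟩
    refine hT ⟨MvPolynomial.map e.toRingEquiv.toRingHom L₁, MvPolynomial.map e.toRingEquiv.toRingHom L₂,
      MvPolynomial.map e.toRingEquiv.toRingHom L₃, h1.map _, h2.map _, h3.map _, ?_⟩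
    rw [Ideal.mem_span_singleton] at hmem ⊢
    have h := map_dvd (MvPolynomial.map e.toRingEquiv.toRingHom) hmem
    rw [map_sub, map_mul, map_mul, hcomp, map_sum] at h
    refine (dvd_of_eq ?_).trans h
    refine Finset.sum_congr rfl fun i _ => ?_
    rw [map_mul, MvPolynomial.map_C, MvPolynomial.map_X]
    congr 2
    show _ = e (algebraMap E (AlgebraicClosure E) _)
    rw [e.commutes, pderiv_map, pderiv_map, eval_map, eval_map, ← MvPolynomial.aeval_def, ← MvPolynomial.aeval_def]
    exact (map_aeval' j (pderiv i F) a).symm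

/-- Pfaffian representation over the field of a point. -/
theorem exists_rep {L : Type v} [Field L] [Algebra k L] (hF : F.IsHomogeneous 3) (hirr : Irreducible FK)
    (hcone : ¬ ∃ v : Fin 4 → k, v ≠ 0 ∧ ∑ i : Fin 4, v i • MvPolynomial.pderiv i F = 0)
    (hroot : ∀ p : Polynomial k, p.natDegree = 3 → ∃ s : L, Polynomial.aeval s p = 0) :
    ∃ E : IntermediateField k L, FiniteDimensional k ↥E ∧ Module.finrank k ↥E ≤ 3 ∧
      ∃ M : Matrix (Fin 6) (Fin 6) (MvPolynomial (Fin 4) ↥E), (∀ i j, (M i j).IsHomogeneous 1) ∧ M.transpose = -M ∧ (∀ i, M i i = 0) ∧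
        ∃ c : ↥E, c ≠ 0 ∧ M.det = MvPolynomial.C c * (MvPolynomial.map (algebraMap k ↥E) F) ^ 2 := by
  rcases rational_point_or_line hF hirr with ⟨a, ha, hFa, hT⟩ | ⟨u, v, p, hp3, hp, hgood⟩
  · haveI hfin : FiniteDimensional k (⊥ : IntermediateField k L) := inferInstance
    let j : (⊥ : IntermediateField k L) →ₐ[k] KK := (Algebra.ofId k KK).comp (IntermediateField.botEquiv k L).toAlgHom
    refine ⟨⊥, hfin, by simp, rep_of_point hF hirr hcone j (fun m => algebraMap k _ (a m)) ?_ ?_ ?_⟩
    · exact fun h => ha (funext fun m => (algebraMap k (⊥ : IntermediateField k L)).injective (by simpa using congrFun h m))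
    · rw [aeval_alg, hFa, map_zero]
    · simp only [j.commutes]; exact hT
  · obtain ⟨s, hs⟩ := hroot p hp3
    have hp0 : p ≠ 0 := fun h => by rw [h] at hp3; simp at hp3
    have hint : IsIntegral k s := (show IsAlgebraic k s from ⟨p, hp0, hs⟩).isIntegral
    haveI hfd : FiniteDimensional k (IntermediateField.adjoin k {s}) := IntermediateField.adjoin.finiteDimensional hint
    let s' : IntermediateField.adjoin k {s} := ⟨s, IntermediateField.mem_adjoin_simple_self k s⟩
    let j : IntermediateField.adjoin k {s} →ₐ[k] KK := IsAlgClosed.lift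
    have hs' : Polynomial.aeval s' p = 0 := Subtype.ext (by
      rw [← IntermediateField.coe_val, ← Polynomial.aeval_algHom_apply]; simpa [s'] using hs)
    have hroot' : Polynomial.aeval (j s') p = 0 := by rw [Polynomial.aeval_algHom_apply, hs', map_zero]
    obtain ⟨hne, hnT⟩ := hgood _ hroot'
    refine ⟨_, hfd, ?_, rep_of_point hF hirr hcone j
      (fun m => algebraMap k _ (v m) + s' * algebraMap k _ (u m)) (fun h => hne ?_) ?_ ?_⟩
    · rw [IntermediateField.adjoin.finrank hint]
      exact (Polynomial.natDegree_le_of_dvd (minpoly.dvd k s hs) hp0).trans hp3.le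
    · funext m
      have := congrArg j (congrFun h m)
      simpa using this
    · rw [← hp, hs']
    · simpa using hnT

end CubicDeg3
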