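import Groth.Agent.CubicDeg3Lib.Basic
import Mathlib.Algebra.Polynomial.Splits
import Mathlib.FieldTheory.IsAlgClosed.Basic

/-!
# A point on no line of an irreducible cubic surface with two singular points
-/

set_option autoImplicit false
set_option linter.unusedSectionVars false
set_option linter.style.haveILetI false

universe u

open MvPolynomial Module

namespace CubicDeg3

variable {K : Type u} [Field K] [CharZero K] [IsAlgClosed K] {F : MvPolynomial (Fin 4) K}
  (D : EckardtLib.CubicTensor F)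

local notation "V" => Fin 4 → K

theorem finite_factor {P : Polynomial K} (hP : P ≠ 0) (β α : K) (hαβ : β ≠ 0 ∨ α ≠ 0) :
    {u : Polynomial K | u.natDegree ≤ 2 ∧ u.coeff 2 = β ∧
      ∃ w : Polynomial K, w.natDegree ≤ 2 ∧ w.coeff 2 = α ∧ u * w = P}.Finite := by
  classical
  let T : Finset (Polynomial K) := ((({β, P.leadingCoeff / α} : Finset K)) ×ˢ P.roots.powerset.toFinset).image
    fun p => Polynomial.C p.1 * (p.2.map fun a => Polynomial.X - Polynomial.C a).prod
  refine T.finite_toSet.subset ?_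
  rintro u ⟨hu, hu2, w, hw, hw2, huw⟩
  have hu0 : u ≠ 0 := fun h => hP (by rw [← huw, h, zero_mul])
  have hw0 : w ≠ 0 := fun h => hP (by rw [← huw, h, mul_zero])
  refine Finset.mem_coe.2 (Finset.mem_image.2 ⟨(u.leadingCoeff, u.roots), Finset.mem_product.2 ⟨?_, ?_⟩, ?_⟩)
  · rcases hαβ with h | h
    · have : u.natDegree = 2 := le_antisymm hu (Polynomial.le_natDegree_of_ne_zero (hu2 ▸ h))
      exact Finset.mem_insert.2 (Or.inl (by rw [Polynomial.leadingCoeff, this, hu2]))
    · have : w.natDegree = 2 := le_antisymm hw (Polynomial.le_natDegree_of_ne_zero (hw2 ▸ h))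
      refine Finset.mem_insert_of_mem (Finset.mem_singleton.2 ?_)
      rw [← huw, Polynomial.leadingCoeff_mul, show w.leadingCoeff = α by rw [Polynomial.leadingCoeff, this, hw2]]
      field_simp
  · rw [Multiset.mem_toFinset, Multiset.mem_powerset]
    exact Polynomial.roots.le_of_dvd hP ⟨w, huw.symm⟩
  · exact ((IsAlgClosed.splits u).eq_prod_roots).symm

set_option maxHeartbeats 1000000 in
-- the coordinate computation is long
include D in
/-- An irreducible cubic surface with two singular points not on a singular line has a point on no line. -/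
theorem exists_noLine (hF : F.IsHomogeneous 3) (hirr : Irreducible F) {a c : V} (hind : LinearIndependent K ![a, c])
    (ha : Sing D a) (hc : Sing D c) {u : V} (hl : D.T a c u ≠ 0) : ∃ b, NoLine F b := by
  classical
  let e2 : V := (D.T a c u)⁻¹ • u
  have he2 : D.T a c e2 = 1 := by simp [e2, hl]
  have haca : D.T a c a = 0 := by rw [D.swap₂]; exact ha c
  have hacc : D.T a c c = 0 := by rw [D.swap₁, D.swap₂]; exact hc a
  obtain ⟨e3, he3, he3'⟩ : ∃ v ∈ LinearMap.ker (D.T a c), v ∉ Submodule.span K {a, c} := by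
    by_contra h
    push Not at h
    have h1 := Submodule.finrank_mono (h : LinearMap.ker (D.T a c) ≤ Submodule.span K {a, c})
    have h2 : finrank K (Submodule.span K {a, c}) ≤ 2 := by
      refine (finrank_span_le_card _).trans ?_
      simpa using Finset.card_le_two
    have h3 := Module.Dual.finrank_ker_add_one_of_ne_zero (show D.T a c ≠ 0 from fun h => hl (by rw [h]; rfl))
    rw [Module.finrank_fin_fun] at h3
    omega
  rw [LinearMap.mem_ker] at he3
  let e : Fin 4 → V := Fin.snoc (Fin.snoc ![a, c] e3) e2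
  have hli : LinearIndependent K e := by
    refine linearIndependent_finSnoc.2 ⟨linearIndependent_finSnoc.2 ⟨hind, ?_⟩, ?_⟩
    · simpa [Set.pair_comm] using he3'
    · intro hm
      have hle : Submodule.span K (Set.range (Fin.snoc ![a, c] e3 : Fin 3 → V)) ≤ LinearMap.ker (D.T a c) := by
        rw [Submodule.span_le]
        rintro _ ⟨i, rfl⟩
        fin_cases i <;> simp [Fin.snoc, haca, hacc, he3]
      have := hle hm
      rw [LinearMap.mem_ker, he2] at this
      exact one_ne_zero this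
  have e0 : e 0 = a := by simp [e, Fin.snoc]
  have e1 : e 1 = c := by simp [e, Fin.snoc]
  have e2' : e 2 = e3 := by simp [e, Fin.snoc]
  have e3'' : e 3 = e2 := by simp [e, Fin.snoc]
  let bA : Basis (Fin 4) K V := basisOfLinearIndependentOfCardEqFinrank hli (by simp)
  have hbA : ∀ i, bA i = e i := fun i => by simp [bA]
  have hsum : ∀ v : V, v = bA.coord 0 v • a + bA.coord 1 v • c + bA.coord 2 v • e3 + bA.coord 3 v • e2 := fun v => by
    conv_lhs => rw [← bA.sum_repr v]
    rw [Fin.sum_univ_four, hbA, hbA, hbA, hbA, e0, e1, e2', e3'']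
    rfl
  -- the form in these coordinates
  have hFv : ∀ x₀ x₁ z y : K, eval (x₀ • a + x₁ • c + z • e3 + y • e2) F = 6 * x₀ * x₁ * y +
      3 * x₀ * (y ^ 2 * D.T a e2 e2 + 2 * (y * z) * D.T a e2 e3 + z ^ 2 * D.T a e3 e3) +
      3 * x₁ * (y ^ 2 * D.T c e2 e2 + 2 * (y * z) * D.T c e2 e3 + z ^ 2 * D.T c e3 e3) +
      (y ^ 3 * D.T e2 e2 e2 + 3 * (y ^ 2 * z) * D.T e2 e2 e3 + 3 * (y * z ^ 2) * D.T e2 e3 e3 + z ^ 3 * D.T e3 e3 e3) := by
    intro x₀ x₁ z y
    have hA : ∀ t, D.T (x₀ • a + x₁ • c) (x₀ • a + x₁ • c) t = 2 * (x₀ * x₁) * D.T a c t := fun t => by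
      simp [ha t, hc t, D.swap₁ c a]
      ring
    rw [show x₀ • a + x₁ • c + z • e3 + y • e2 = (1 : K) • (x₀ • a + x₁ • c) + (1 : K) • (z • e3 + y • e2) by module,
      expand D, hA, hA]
    simp [haca, hacc, he3, he2, D.swap₁ e3 e2, D.swap₂ _ e3 e2]
    ring
  let A : Polynomial K := Polynomial.C (D.T a e2 e2) + Polynomial.C (2 * D.T a e2 e3) * Polynomial.X +
    Polynomial.C (D.T a e3 e3) * Polynomial.X ^ 2
  let B : Polynomial K := Polynomial.C (D.T c e2 e2) + Polynomial.C (2 * D.T c e2 e3) * Polynomial.X +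
    Polynomial.C (D.T c e3 e3) * Polynomial.X ^ 2
  let G : Polynomial K := Polynomial.C (D.T e2 e2 e2) + Polynomial.C (3 * D.T e2 e2 e3) * Polynomial.X +
    Polynomial.C (3 * D.T e2 e3 e3) * Polynomial.X ^ 2 + Polynomial.C (D.T e3 e3 e3) * Polynomial.X ^ 3
  let P : Polynomial K := A * B - Polynomial.C (2 / 3) * G
  have hAB2 : A.coeff 2 = D.T a e3 e3 ∧ B.coeff 2 = D.T c e3 e3 := by
    constructor <;> simp [A, B, Polynomial.coeff_C, Polynomial.coeff_X]
  have htop : D.T a e3 e3 = 0 → D.T c e3 e3 = 0 → D.T e3 e3 e3 = 0 → False := by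
    intro h1 h2 h3
    refine false_of_hyperplane D hF hirr (g := bA.coord 3) (u := e2) (by rw [← e3'', ← hbA]; simp) fun v hv => ?_
    rw [hsum v, hFv, hv]
    simp [h1, h2, h3]
  have hP0 : P ≠ 0 := by
    intro hP
    have hc4 := congrArg (fun p => Polynomial.coeff p 4) hP
    have hc3 := congrArg (fun p => Polynomial.coeff p 3) hP
    have hc2 := congrArg (fun p => Polynomial.coeff p 2) hP
    have hc1 := congrArg (fun p => Polynomial.coeff p 1) hP
    have hc0 := congrArg (fun p => Polynomial.coeff p 0) hP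
    simp [P, A, B, G, Polynomial.coeff_mul, Finset.Nat.antidiagonal_succ, Polynomial.coeff_C, Polynomial.coeff_X,
      Polynomial.coeff_X_pow] at hc0 hc1 hc2 hc3 hc4
    rcases hc4 with h | h
    · -- `A` is linear, so `2 x₁ + A` is a linear factor
      refine false_of_hyperplane D hF hirr (g := (2 : K) • bA.coord 1 + D.T a e2 e2 • bA.coord 3 + (2 * D.T a e2 e3) • bA.coord 2)
        (u := (2 : K)⁻¹ • c) (by rw [← e1, ← hbA]; simp) fun v hv => ?_
      rw [hsum v, hFv]
      simp [Basis.coord_apply] at hv ⊢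
      rw [h] at hc2 hc3 ⊢
      have hx : bA.repr v 1 = -(D.T a e2 e2 * bA.repr v 3 + 2 * D.T a e2 e3 * bA.repr v 2) / 2 := by
        linear_combination hv / 2
      rw [hx]
      linear_combination (-3/2 : K) * ((bA.repr v 3) ^ 3 * hc0 + (bA.repr v 3) ^ 2 * bA.repr v 2 * hc1 +
        bA.repr v 3 * (bA.repr v 2) ^ 2 * hc2 + (bA.repr v 2) ^ 3 * hc3)
    · refine false_of_hyperplane D hF hirr (g := (2 : K) • bA.coord 0 + D.T c e2 e2 • bA.coord 3 + (2 * D.T c e2 e3) • bA.coord 2)
        (u := (2 : K)⁻¹ • a) (by rw [← e0, ← hbA]; simp) fun v hv => ?_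
      rw [hsum v, hFv]
      simp [Basis.coord_apply] at hv ⊢
      rw [h] at hc2 hc3 ⊢
      have hx : bA.repr v 0 = -(D.T c e2 e2 * bA.repr v 3 + 2 * D.T c e2 e3 * bA.repr v 2) / 2 := by
        linear_combination hv / 2
      rw [hx]
      linear_combination (-3/2 : K) * ((bA.repr v 3) ^ 3 * hc0 + (bA.repr v 3) ^ 2 * bA.repr v 2 * hc1 +
        bA.repr v 3 * (bA.repr v 2) ^ 2 * hc2 + (bA.repr v 2) ^ 3 * hc3)
  haveI : Infinite K := Infinite.of_injective (fun n : ℕ => (n : K)) Nat.cast_injective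
  let S : Set (Polynomial K) := {u | u.natDegree ≤ 2 ∧ u.coeff 2 = D.T c e3 e3 ∧
      ∃ w : Polynomial K, w.natDegree ≤ 2 ∧ w.coeff 2 = D.T a e3 e3 ∧ u * w = P}
  have hS : S.Finite := by
    by_cases h : D.T c e3 e3 ≠ 0 ∨ D.T a e3 e3 ≠ 0
    · exact finite_factor hP0 _ _ h
    push Not at h
    refine Set.Finite.subset (Set.finite_empty) ?_
    rintro q ⟨hq, hq2, w, hw, hw2, hqw⟩
    have hlow : ∀ r : Polynomial K, r.natDegree ≤ 2 → r.coeff 2 = 0 → r.natDegree ≤ 1 := fun r hr hr2 =>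
      Polynomial.natDegree_le_iff_coeff_eq_zero.2 fun N hN => by
        rcases (by omega : N = 2 ∨ 2 < N) with rfl | h'
        · exact hr2
        · exact Polynomial.coeff_eq_zero_of_natDegree_lt (by omega)
    have h1 := hlow q hq (hq2.trans h.1)
    have h2 := hlow w hw (hw2.trans h.2)
    have h3 : P.coeff 3 = 0 := by
      rw [← hqw]
      exact Polynomial.coeff_eq_zero_of_natDegree_lt (Polynomial.natDegree_mul_le.trans_lt (by omega))
    simp [P, A, B, G, h.1, h.2, Polynomial.coeff_mul, Finset.Nat.antidiagonal_succ, Polynomial.coeff_C,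
      Polynomial.coeff_X, Polynomial.coeff_X_pow] at h3
    exact (htop h.2 h.1 h3).elim
  obtain ⟨z₀, hz₀⟩ : ∃ z, P.eval z ≠ 0 := by
    by_contra h
    push Not at h
    exact hP0 (Polynomial.funext fun z => by rw [h, Polynomial.eval_zero])
  obtain ⟨X₀, hX₀⟩ := Infinite.exists_notMem_finset
    (insert (0 : K) (hS.image fun q : Polynomial K => q.eval z₀).toFinset)
  simp only [Finset.mem_insert, Set.Finite.mem_toFinset, Set.mem_image, not_or, not_exists, not_and] at hX₀
  obtain ⟨hX0, hXS⟩ := hX₀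
  obtain ⟨Y₀, hY₀⟩ : ∃ Y, X₀ * Y = P.eval z₀ := ⟨P.eval z₀ / X₀, by field_simp⟩
  have hY0 : Y₀ ≠ 0 := fun h => hz₀ (by rw [← hY₀, h, mul_zero])
  have hFeq : ∀ x₀ x₁ z : K, eval (x₀ • a + x₁ • c + z • e3 + (1 : K) • e2) F =
      3 / 2 * ((2 * x₀ + B.eval z) * (2 * x₁ + A.eval z) - P.eval z) := fun x₀ x₁ z => by
    rw [hFv]
    simp [P, A, B, G]
    ring
  let x₀ := (X₀ - B.eval z₀) / 2
  let x₁ := (Y₀ - A.eval z₀) / 2
  let b := x₀ • a + x₁ • c + z₀ • e3 + (1 : K) • e2
  have hcoord : ∀ y₀ y₁ y₂ y₃ : K, bA.coord 0 (y₀ • a + y₁ • c + y₂ • e3 + y₃ • e2) = y₀ ∧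
      bA.coord 3 (y₀ • a + y₁ • c + y₂ • e3 + y₃ • e2) = y₃ := fun y₀ y₁ y₂ y₃ => by
    simp [← e0, ← e1, ← e2', ← e3'', ← hbA]
  refine ⟨b, fun hb => ?_, ?_, fun v hv => ?_⟩
  · have := (hcoord x₀ x₁ z₀ 1).2
    rw [show x₀ • a + x₁ • c + z₀ • e3 + (1 : K) • e2 = 0 from hb, map_zero] at this
    exact zero_ne_one this
  · show eval (x₀ • a + x₁ • c + z₀ • e3 + (1 : K) • e2) F = 0
    rw [hFeq, show 2 * x₀ + B.eval z₀ = X₀ by simp only [x₀]; ring, show 2 * x₁ + A.eval z₀ = Y₀ by simp only [x₁]; ring,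
      hY₀, sub_self, mul_zero]
  by_contra hcon
  push Not at hcon
  apply hv
  set vy := bA.coord 3 v
  obtain ⟨v', hv'⟩ : ∃ v', v' = v - vy • b := ⟨_, rfl⟩
  have hv3 : bA.coord 3 v' = 0 := by
    rw [hv', map_sub, map_smul, (hcoord x₀ x₁ z₀ 1).2, smul_eq_mul, mul_one, sub_self]
  obtain ⟨v₀, v₁, vz, hvv⟩ : ∃ v₀ v₁ vz : K, v' = v₀ • a + v₁ • c + vz • e3 :=
    ⟨bA.coord 0 v', bA.coord 1 v', bA.coord 2 v', by conv_lhs => rw [hsum v', hv3, zero_smul, add_zero]⟩
  have hid : ∀ s : K, (X₀ + s * (2 * v₀) + (B.eval (z₀ + s * vz) - B.eval z₀)) *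
      (Y₀ + s * (2 * v₁) + (A.eval (z₀ + s * vz) - A.eval z₀)) = P.eval (z₀ + s * vz) := by
    intro s
    have h := hcon (1 - s * vy) s
    rw [show (1 - s * vy) • b + s • v = (x₀ + s * v₀) • a + (x₁ + s * v₁) • c + (z₀ + s * vz) • e3 + (1 : K) • e2 by
      rw [show v = v' + vy • b by rw [hv']; abel, hvv]; simp only [b]; module, hFeq] at h
    have := (mul_eq_zero.1 h).resolve_left (by norm_num)
    rw [show x₀ = (X₀ - B.eval z₀) / 2 from rfl, show x₁ = (Y₀ - A.eval z₀) / 2 from rfl] at this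
    linear_combination this
  by_cases hvz : vz = 0
  · subst hvz
    simp only [mul_zero, add_zero, sub_self] at hid
    have i1 := hid 1; have i2 := hid (-1)
    have p1 : v₀ * v₁ = 0 := by linear_combination (1 / 8 : K) * i1 + (1 / 8 : K) * i2 - (1 / 4 : K) * hY₀
    have p2 : v₁ * X₀ + v₀ * Y₀ = 0 := by linear_combination (1 / 4 : K) * i1 - (1 / 4 : K) * i2
    have h0 : v₀ = 0 ∧ v₁ = 0 := by
      rcases mul_eq_zero.1 p1 with h | h <;> subst h
      · exact ⟨rfl, by simpa [hX0] using p2⟩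
      · exact ⟨by simpa [hY0] using p2, rfl⟩
    have : v' = 0 := by rw [hvv, h0.1, h0.2]; simp
    rw [hv', sub_eq_zero] at this
    exact Submodule.mem_span_singleton.2 ⟨vy, this.symm⟩
  · exfalso
    let q : Polynomial K := B + Polynomial.C (X₀ - B.eval z₀ - z₀ * (2 * v₀ / vz)) + Polynomial.C (2 * v₀ / vz) * Polynomial.X
    let w : Polynomial K := A + Polynomial.C (Y₀ - A.eval z₀ - z₀ * (2 * v₁ / vz)) + Polynomial.C (2 * v₁ / vz) * Polynomial.X
    refine hXS q ⟨?_, ?_, w, ?_, ?_, ?_⟩ (by simp [q]; ring)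
    · simp only [q, B]; compute_degree
    · simp only [q, Polynomial.coeff_add, hAB2.2]; simp [Polynomial.coeff_X, Polynomial.coeff_C]
    · simp only [w, A]; compute_degree
    · simp only [w, Polynomial.coeff_add, hAB2.1]; simp [Polynomial.coeff_X, Polynomial.coeff_C]
    · refine Polynomial.funext fun z => ?_
      have h := hid ((z - z₀) / vz)
      rw [show z₀ + (z - z₀) / vz * vz = z by field_simp; ring] at h
      rw [Polynomial.eval_mul, ← h]
      simp [q, w]
      ring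

end CubicDeg3
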