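import Groth.Agent.CubicDeg3Lib.Smooth
import Groth.Agent.CubicDeg3Lib.TwoNode
import Mathlib.RingTheory.IntegralClosure.IsIntegralClosure.Basic
import Mathlib.RingTheory.Polynomial.UniqueFactorization
import Mathlib.RingTheory.Ideal.GoingUp

/-!
# Points of degree at most three which are not T-points
-/

set_option autoImplicit false
set_option linter.unusedSectionVars false
set_option linter.unusedVariables false
set_option linter.style.haveILetI false

universe u

open MvPolynomial Module CubicPfaff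

namespace CubicDeg3

variable {K : Type u} [Field K] [CharZero K] [IsAlgClosed K] {F : MvPolynomial (Fin 4) K}

local notation "V" => Fin 4 → K

/-- Not being a T-point is an open condition (test polynomial at a smooth point which is not a T-point). -/
theorem exists_test (hF : F.IsHomogeneous 3) {a : Fin 4 → K} (ha0 : a ≠ 0) (hFa : eval a F = 0)
    (l : (Fin 4 → K) →ₗ[K] K) (hl : ∀ x, l x = polar F a x) (hl0 : l ≠ 0) (ha : ¬ IsT F a) :
    ∃ G : MvPolynomial (Fin 4) K, eval a G ≠ 0 ∧ ∀ b, eval b F = 0 → IsT F b → eval b G = 0 := by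
  classical
  haveI : Infinite K := Infinite.of_injective (fun n : ℕ => (n : K)) Nat.cast_injective
  obtain ⟨x₀, hx₀⟩ : ∃ x, l x ≠ 0 := by
    by_contra h; push Not at h; exact hl0 (LinearMap.ext h)
  let w := (l x₀)⁻¹ • x₀
  have hw : l w = 1 := by simp [w, hx₀]
  have hla : l a = 0 := by rw [hl, polar_self hF, aeval_k, hFa, mul_zero]
  have hker : Module.finrank K (LinearMap.ker l) = 3 := by
    have h1 := LinearMap.finrank_range_add_finrank_ker l
    rw [LinearMap.range_eq_top.2 (LinearMap.surjective hl0), finrank_top, Module.finrank_self, Module.finrank_fin_fun] at h1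
    omega
  have mkbasis : ∀ h₁ h₂ : Fin 4 → K, l h₁ = 0 → l h₂ = 0 → h₁ ∉ Submodule.span K (Set.range ![a]) →
      h₂ ∉ Submodule.span K (Set.range ![a, h₁]) →
      ∃ α β γ : (Fin 4 → K) →ₗ[K] K, (∀ x, proj l w x = α x • a + β x • h₁ + γ x • h₂) ∧
        (α a = 1 ∧ β a = 0 ∧ γ a = 0) := by
    intro h₁ h₂ l1 l2 n1 n2
    have indA : LinearIndependent K (Fin.snoc (Fin.snoc (Fin.snoc (![a] : Fin 1 → Fin 4 → K) h₁) h₂) w : Fin 4 → Fin 4 → K) := by
      refine linearIndependent_finSnoc.2 ⟨linearIndependent_finSnoc.2 ⟨linearIndependent_finSnoc.2 ⟨?_, n1⟩, ?_⟩, ?_⟩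
      · exact linearIndependent_unique_iff.2 (by simpa using ha0)
      · intro hm
        refine n2 (Submodule.span_mono ?_ hm)
        rintro _ ⟨i, rfl⟩
        fin_cases i <;> simp [Fin.snoc]
      · intro hmem
        have hsub : Submodule.span K (Set.range (Fin.snoc (Fin.snoc (![a] : Fin 1 → Fin 4 → K) h₁) h₂ : Fin 3 → Fin 4 → K)) ≤ LinearMap.ker l := by
          rw [Submodule.span_le]
          rintro _ ⟨i, rfl⟩
          fin_cases i
          · exact hla
          · exact l1
          · exact l2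
        have := hsub hmem
        rw [LinearMap.mem_ker, hw] at this
        exact one_ne_zero this
    let bA : Module.Basis (Fin 4) K (Fin 4 → K) := basisOfLinearIndependentOfCardEqFinrank indA (by simp)
    have hb0 : bA 0 = a := by simp [bA, Fin.snoc]
    refine ⟨bA.coord 0, bA.coord 1, bA.coord 2, fun x => ?_, ?_⟩
    · have hx := bA.sum_repr x
      rw [Fin.sum_univ_four] at hx
      have hx' : bA.repr x 0 • a + bA.repr x 1 • h₁ + bA.repr x 2 • h₂ + bA.repr x 3 • w = x := by
        refine Eq.trans ?_ hx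
        simp only [bA, coe_basisOfLinearIndependentOfCardEqFinrank]
        rfl
      have h3 : l x = bA.repr x 3 := by
        conv_lhs => rw [← hx']
        simp [map_add, hla, hw, l1, l2]
      rw [proj_apply, h3]
      show x - bA.repr x 3 • w = bA.repr x 0 • a + bA.repr x 1 • h₁ + bA.repr x 2 • h₂
      exact sub_eq_iff_eq_add.2 hx'.symm
    · refine ⟨?_, ?_, ?_⟩ <;> rw [← hb0] <;> simp
  have hp : ∀ x : Fin 4 → K, l x = 0 → proj l w x = x := fun x hx => by simp [proj_apply, hx]
  have hshift : ∀ (y : Fin 4 → K) (t : K), l y = 0 →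
      eval (t • a + y) F = eval y F + t * polar F y a ∧ polar F (t • a + y) a = polar F y a := by
    intro y t hy
    have h1 := taylor hF y a t
    have h2 := polar_shift hF y a t
    rw [aeval_k, aeval_k, aeval_k, ← hl, hy, hFa] at h1
    rw [← hl, hy, aeval_k, hFa] at h2
    rw [show t • a + y = fun m => y m + t * a m from funext fun m => by simp; ring]
    exact ⟨by linear_combination h1, by linear_combination h2⟩
  -- congruence of `F` with a polynomial in the coordinates of the tangent plane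
  have toT : ∀ L₁ L₂ L₃ : MvPolynomial (Fin 4) K, L₁.IsHomogeneous 1 → L₂.IsHomogeneous 1 → L₃.IsHomogeneous 1 →
      (∀ x, eval (proj l w x) F = eval x (L₁ * L₂ * L₃)) → IsT F a := by
    intro L₁ L₂ L₃ e1 e2 e3 he
    refine ⟨L₁, L₂, L₃, e1, e2, e3, ?_⟩
    have e : L₁ * L₂ * L₃ = subst (LinearMap.toMatrix' (proj l w)) F :=
      MvPolynomial.funext fun x => by rw [eval_subst_toMatrix, he]
    have hlf : (∑ i : Fin 4, C (eval a (pderiv i F)) * X i) = lform l :=
      MvPolynomial.funext fun x => by rw [← polar_eq_sum, eval_lform, hl]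
    rw [e, hlf]
    have h1 : (Ideal.Quotient.mkₐ K (Ideal.span {lform l})).comp (subst (LinearMap.toMatrix' (proj l w))) =
        Ideal.Quotient.mkₐ K (Ideal.span {lform l}) := by
      refine MvPolynomial.algHom_ext fun i => ?_
      refine Ideal.Quotient.eq.2 (Ideal.mem_span_singleton'.2 ⟨-C (w i), ?_⟩)
      refine MvPolynomial.funext fun x => ?_
      rw [map_mul, map_neg, eval_C, eval_lform, map_sub]
      show -w i * l x = eval x (subst (LinearMap.toMatrix' (proj l w)) (X i)) - eval x (X i)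
      rw [eval_subst_toMatrix, eval_X, eval_X, proj_apply]
      simp
      ring
    exact Ideal.Quotient.eq.1 (AlgHom.congr_fun h1 F).symm
  -- choose `h₂` off the tangent cone
  obtain ⟨h₂, l2, q2⟩ : ∃ h, l h = 0 ∧ polar F h a ≠ 0 := by
    by_contra hcon
    push Not at hcon
    obtain ⟨g₁, g1, g1'⟩ := SetLike.not_le_iff_exists.1 (not_le_span ![a] (LinearMap.ker l) (by omega))
    obtain ⟨g₂, g2, g2'⟩ := SetLike.not_le_iff_exists.1 (not_le_span ![a, g₁] (LinearMap.ker l) (by omega))
    obtain ⟨α, β, γ, hdec, -⟩ := mkbasis g₁ g₂ g1 g2 g1' g2'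
    obtain ⟨L₁, L₂, L₃, e1, e2, e3, he⟩ := cubic_factor (eval g₁ F) (polar F g₁ g₂) (polar F g₂ g₁) (eval g₂ F)
      _ _ (isHomogeneous_lform β) (isHomogeneous_lform γ)
    refine ha (toT L₁ L₂ L₃ e1 e2 e3 fun x => ?_)
    have hy : l (β x • g₁ + γ x • g₂) = 0 := by simp [LinearMap.mem_ker.1 g1, LinearMap.mem_ker.1 g2]
    rw [← he, hdec, add_assoc, (hshift _ _ hy).1, hcon _ hy, eval_pair hF]
    simp [eval_lform]
  have n2' : h₂ ∉ Submodule.span K (Set.range ![a]) := by
    intro hm
    simp [Submodule.mem_span_singleton] at hm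
    obtain ⟨r, rfl⟩ := hm
    exact q2 (by rw [show r • a = fun m => r * a m from rfl, polar_scale_left hF, polar_self hF, aeval_k, hFa, mul_zero, mul_zero])
  obtain ⟨h₁, hh₁, hh₁'⟩ := SetLike.not_le_iff_exists.1 (not_le_span ![a, h₂] (LinearMap.ker l) (by omega))
  have l1 : l h₁ = 0 := hh₁
  have n1 : h₁ ∉ Submodule.span K (Set.range ![a]) := fun hm => hh₁' (Submodule.span_mono (by simp) hm)
  have n12 : h₂ ∉ Submodule.span K (Set.range ![a, h₁]) := by
    intro hm
    rw [show Set.range ![a, h₁] = insert h₁ {a} by simp [Set.pair_comm]] at hm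
    refine hh₁' ?_
    rw [show Set.range ![a, h₂] = insert h₂ {a} by simp [Set.pair_comm]]
    refine mem_span_insert_exchange hm ?_
    simpa using n2'
  obtain ⟨α, β, γ, hdec, hαa, hβa, hγa⟩ := mkbasis h₁ h₂ l1 l2 n1 n12
  -- the test polynomial
  let cst : (Fin 4 → K) → Fin 4 → MvPolynomial (Fin 4) K := fun u m => C (u m)
  have hcst : ∀ (b u : Fin 4 → K), (fun m => aeval b (cst u m)) = u := fun b u => funext fun m => by simp [cst]
  let P : (MvPolynomial (Fin 4) K → MvPolynomial (Fin 4) K → MvPolynomial (Fin 4) K → MvPolynomial (Fin 4) K →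
      MvPolynomial (Fin 4) K → MvPolynomial (Fin 4) K → MvPolynomial (Fin 4) K → MvPolynomial (Fin 4) K) → MvPolynomial (Fin 4) K :=
    fun f => critAt F (cst w) (cst h₁) (cst h₂) (X : Fin 4 → MvPolynomial (Fin 4) K) f
  have htv : ∀ (b h : Fin 4 → K), (fun m => aeval b (tv F (cst w) (cst h) (X : Fin 4 → MvPolynomial (Fin 4) K) m)) = tv F w h b := by
    intro b h
    funext m
    simp only [tv, map_sub, map_mul, map_polar, hcst, aeval_X]
    simp [cst]
  have htv' : ∀ (b h : Fin 4 → K) (m : Fin 4), aeval b (tv F (cst w) (cst h) (X : Fin 4 → MvPolynomial (Fin 4) K) m) = tv F w h b m :=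
    fun b h m => congrFun (htv b h) m
  have hP1 : ∀ b, eval b (P crit₁) = critAt F w h₁ h₂ b crit₁ := fun b => by
    rw [← aeval_k]
    simp only [P, critAt, crit₁, map_sub, map_add, map_mul, map_pow, map_zero, map_polar, map_aeval', htv, htv', aeval_X]
  have hP2 : ∀ b, eval b (P crit₂) = critAt F w h₁ h₂ b crit₂ := fun b => by
    rw [← aeval_k]
    simp only [P, critAt, crit₂, map_sub, map_add, map_mul, map_pow, map_zero, map_polar, map_aeval', htv, htv', aeval_X]
  have hva : ∀ h, l h = 0 → tv F w h a = h := fun h hh => funext fun m => by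
    simp [tv, ← hl, hw, hh]
  obtain ⟨G, hGa, hG⟩ : ∃ G : MvPolynomial (Fin 4) K, eval a G ≠ 0 ∧ ∀ b, eval b F = 0 → IsT F b → eval b G = 0 := by
    by_contra hcon
    push Not at hcon
    have c1 : eval a (P crit₁) = 0 := by
      by_contra h
      obtain ⟨b, hb, hbT, hne⟩ := hcon _ h
      exact hne (by rw [hP1]; exact (critAt_eq_zero hF hb hbT).1)
    have c2 : eval a (P crit₂) = 0 := by
      by_contra h
      obtain ⟨b, hb, hbT, hne⟩ := hcon _ h
      exact hne (by rw [hP2]; exact (critAt_eq_zero hF hb hbT).2)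
    rw [hP1] at c1
    rw [hP2] at c2
    simp only [critAt, hva _ l1, hva _ l2, crit₁, crit₂, aeval_k] at c1 c2
    set A := polar F h₁ a
    set C₀ := polar F h₂ a
    set B := polar F (fun m => h₁ m + h₂ m) a - A - C₀ with hB
    obtain ⟨q, hq⟩ : ∃ q, q = eval h₂ F / C₀ := ⟨_, rfl⟩
    obtain ⟨p, hp'⟩ : ∃ p, p = (polar F h₂ h₁ - q * B) / C₀ := ⟨_, rfl⟩
    have c3e : eval h₂ F = C₀ * q := by rw [hq]; field_simp
    have c2e : polar F h₂ h₁ = B * q + C₀ * p := by rw [hp']; field_simp; ring
    rw [c3e, c2e] at c1 c2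
    have c1e : polar F h₁ h₂ = A * q + B * p := by
      apply mul_left_cancel₀ (pow_ne_zero 2 q2)
      linear_combination c1
    have c0e : eval h₁ F = A * p := by
      apply mul_left_cancel₀ (pow_ne_zero 2 q2)
      linear_combination c2
    obtain ⟨L₁, L₂, e1, e2, he⟩ := quadratic_factor A B C₀ _ _ (isHomogeneous_lform β) (isHomogeneous_lform γ)
    refine ha (toT L₁ L₂ (lform (p • β + q • γ + α)) e1 e2 (isHomogeneous_lform _) fun x => ?_)
    have hy : l (β x • h₁ + γ x • h₂) = 0 := by simp [l1, l2]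
    rw [← he, hdec, add_assoc, (hshift _ _ hy).1, eval_pair hF, polar_pair hF, ← hB, c0e, c1e, c2e, c3e]
    simp [eval_lform]
    ring
  exact ⟨G, hGa, hG⟩

variable (D : EckardtLib.CubicTensor F)

include D in
/-- An open set of points which are not T-points, unless the surface has a singular point. -/
theorem exists_open (hF : F.IsHomogeneous 3) {a : V} (ha0 : a ≠ 0) (hFa : eval a F = 0) (hns : ¬ Sing D a)
    (ha : ¬ IsT F a) :
    ∃ G : MvPolynomial (Fin 4) K, eval a G ≠ 0 ∧ ∀ b, eval b F = 0 → eval b G ≠ 0 → b ≠ 0 ∧ ¬ IsT F b := by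
  have e : ∀ x, polar F a x = 3 * D.T a a x := fun x => by
    rw [← D.grad_eq a x]
    simp [polar, aeval_k]
  obtain ⟨G, hG, hG'⟩ := exists_test hF ha0 hFa ((3 : K) • D.T a a) (fun x => by rw [e]; simp)
    (fun h => hns fun w => by simpa using LinearMap.congr_fun h w) ha
  obtain ⟨i, hi⟩ := Function.ne_iff.1 ha0
  refine ⟨G * MvPolynomial.X i, by simp [hG]; exact hi, fun b hb hbG => ⟨?_, fun hT => hbG ?_⟩⟩
  · rintro rfl
    simp at hbG
  · rw [map_mul, hG' b hb hT, zero_mul]

include D in
/-- The alternative: an open set of non-T points, a singular line, or a unique singular point. -/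
theorem trichotomy (hF : F.IsHomogeneous 3) (hirr : Irreducible F) :
    (∃ (a : V) (G : MvPolynomial (Fin 4) K), eval a F = 0 ∧ eval a G ≠ 0 ∧
      ∀ b, eval b F = 0 → eval b G ≠ 0 → b ≠ 0 ∧ ¬ IsT F b) ∨
    (∃ a c : V, LinearIndependent K ![a, c] ∧ ∀ v, Sing D v ↔ v ∈ Submodule.span K {a, c}) ∨
    (∃ a : V, a ≠ 0 ∧ ∀ v, Sing D v ↔ v ∈ Submodule.span K {a}) := by
  by_cases hs : ∃ a : V, a ≠ 0 ∧ Sing D a
  · obtain ⟨a, ha0, ha⟩ := hs
    by_cases h2 : ∀ v, Sing D v → v ∈ Submodule.span K {a}
    · exact Or.inr (Or.inr ⟨a, ha0, fun v => ⟨h2 v, fun hv => by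
        obtain ⟨r, rfl⟩ := Submodule.mem_span_singleton.1 hv; exact ha.smul D r⟩⟩)
    push Not at h2
    obtain ⟨c, hc, hca⟩ := h2
    have hind : LinearIndependent K ![a, c] := by
      refine LinearIndependent.pair_iff.2 fun s r h => ?_
      by_cases hr : r = 0
      · subst hr
        simpa [ha0] using h
      · exact absurd (Submodule.mem_span_singleton.2 ⟨-s / r, by
          have : c = -(s / r) • a := by
            rw [← sub_eq_zero, show c - -(s / r) • a = r⁻¹ • (s • a + r • c) by
              rw [smul_add, smul_smul, smul_smul, inv_mul_cancel₀ hr, one_smul, inv_mul_eq_div]; module, h, smul_zero]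
          rw [this]; simp [neg_div]⟩) hca
    by_cases hl : ∀ u, D.T a c u = 0
    · refine Or.inr (Or.inl ⟨a, c, hind, fun v => ⟨fun hv => ?_, fun hv w => ?_⟩⟩)
      · by_contra hvn
        have hli : LinearIndependent K (Fin.snoc ![a, c] v : Fin 3 → V) :=
          linearIndependent_finSnoc.2 ⟨hind, by simpa [Set.pair_comm] using hvn⟩
        obtain ⟨u, -, hu⟩ : ∃ u ∈ (⊤ : Submodule K V), u ∉ Submodule.span K (Set.range (Fin.snoc ![a, c] v : Fin 3 → V)) := by
          by_contra h
          push Not at h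
          have h1 := Submodule.finrank_mono (h : ⊤ ≤ Submodule.span K (Set.range (Fin.snoc ![a, c] v : Fin 3 → V)))
          rw [finrank_top, Module.finrank_fin_fun, finrank_span_eq_card hli, Fintype.card_fin] at h1
          omega
        let bA : Basis (Fin 4) K V := basisOfLinearIndependentOfCardEqFinrank
          (linearIndependent_finSnoc.2 ⟨hli, hu⟩) (by simp)
        refine false_of_hyperplane D hF hirr (g := bA.coord 3) (u := bA 3) (by simp) fun y hy => ?_
        rw [← bA.sum_repr y, Fin.sum_univ_four, show bA.repr y 3 = 0 from hy, zero_smul, add_zero]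
        simp only [bA, coe_basisOfLinearIndependentOfCardEqFinrank]
        generalize bA.repr y 0 = p₀, bA.repr y 1 = p₁, bA.repr y 2 = p₂
        simp only [Fin.snoc]
        simp
        have hA : ∀ t, D.T (p₀ • a + p₁ • c) (p₀ • a + p₁ • c) t = 0 := fun t => by
          simp [ha t, hc t, hl t, D.swap₁ c a]
        rw [show p₀ • a + p₁ • c + p₂ • v = (1 : K) • (p₀ • a + p₁ • c) + p₂ • v by rw [one_smul], expand D, hA, hA,
          D.swap₁ (p₀ • a + p₁ • c), D.swap₂ v (p₀ • a + p₁ • c), hv, hv]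
        ring
      · obtain ⟨p, q, rfl⟩ := Submodule.mem_span_pair.1 hv
        simp [ha w, hc w, hl w, D.swap₁ c a]
    · push Not at hl
      obtain ⟨u, hu⟩ := hl
      obtain ⟨b, hb⟩ := exists_noLine D hF hirr hind ha hc hu
      have hns : ¬ Sing D b := fun hbs => by
        have haF := ha.eval_eq_zero D
        by_cases hab : a ∈ Submodule.span K {b}
        · by_cases hcb : c ∈ Submodule.span K {b}
          · obtain ⟨p, hp⟩ := Submodule.mem_span_singleton.1 hab
            obtain ⟨q, hq⟩ := Submodule.mem_span_singleton.1 hcb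
            obtain ⟨h1, h2⟩ := LinearIndependent.pair_iff.1 hind q (-p) (by rw [← hp, ← hq]; module)
            rw [neg_eq_zero] at h2
            exact ha0 (by rw [← hp, h2, zero_smul])
          · obtain ⟨s, r, hsr⟩ := hb.2.2 c hcb
            refine hsr ?_
            rw [expand D, hbs, hbs, D.swap₁ b c, D.swap₂ c b c, hc, hc]
            ring
        · obtain ⟨s, r, hsr⟩ := hb.2.2 a hab
          refine hsr ?_
          rw [expand D, hbs, hbs, D.swap₁ b a, D.swap₂ a b a, ha, ha]
          ring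
      obtain ⟨G, hG, hG'⟩ := exists_open D hF hb.1 hb.2.1 hns (hb.not_isT D)
      exact Or.inl ⟨b, G, hb.2.1, hG, hG'⟩
  · rcases exists_sing_or_not_isT D hF hirr.ne_zero with ⟨b, hb, hbS⟩ | ⟨b, hb, hbF, hbT⟩
    · exact absurd ⟨b, hb, hbS⟩ hs
    · obtain ⟨G, hG, hG'⟩ := exists_open D hF hb hbF (fun h => hs ⟨b, hb, h⟩) hbT
      exact Or.inl ⟨b, G, hbF, hG, hG'⟩

include D in
/-- A linear substitution expansion of `F` along a direction, over an algebra. -/
theorem aeval_line {A : Type u} [CommRing A] [Algebra K A] (hF : F.IsHomogeneous 3) (y : Fin 4 → A) (w : V) (t : A) :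
    aeval (fun m => y m + t * algebraMap K A (w m)) F = aeval y F + t * polar F y (fun m => algebraMap K A (w m)) +
      t ^ 2 * polar F (fun m => algebraMap K A (w m)) y + t ^ 3 * algebraMap K A (eval w F) := by
  rw [taylor hF, ← aeval_k, ← Algebra.ofId_apply (R := K) (A := A) (aeval w F), map_aeval' (Algebra.ofId K A) F w]
  rfl

include D in
/-- A polynomial in the lines through `w`, which vanishes where the surface meets `G = 0`. -/
theorem exists_resultant (hF : F.IsHomogeneous 3) (hirr : Irreducible F) {a w : V} (hwF : eval w F ≠ 0)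
    (haF : eval a F = 0) {G : MvPolynomial (Fin 4) K} (haG : eval a G ≠ 0) :
    ∃ R : MvPolynomial (Fin 4) K, R ≠ 0 ∧ (∀ y : V, ∀ s : K, eval (y + s • w) R = eval y R) ∧
      ∀ x, eval x F = 0 → eval x G = 0 → eval x R = 0 := by
  have hw0 : w ≠ 0 := by
    rintro rfl
    exact hwF (by rw [MvPolynomial.eval_zero, MvPolynomial.constantCoeff_eq]; exact hF.coeff_eq_zero (by simp))
  obtain ⟨i₀, hi₀⟩ := Function.ne_iff.1 hw0
  let P := MvPolynomial (Fin 4) K
  let I : Ideal P := Ideal.span {F}
  haveI : I.IsPrime := (Ideal.span_singleton_prime hirr.ne_zero).2 hirr.prime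
  let φ : P →ₐ[K] P := MvPolynomial.aeval fun i => X i - C (w i / w i₀) * X i₀
  let π : P →ₐ[K] P ⧸ I := Ideal.Quotient.mkₐ K I
  let A₀ : Subalgebra K (P ⧸ I) := (π.comp φ).range
  have hφ : ∀ (y : V) (p : P), eval y (φ p) = eval (y - (y i₀ / w i₀) • w) p := fun y p => by
    rw [← aeval_k, map_aeval', ← aeval_k]
    congr 2
    funext m
    simp [φ]
    ring
  let lam : P ⧸ I := π (C (w i₀)⁻¹ * X i₀)
  have hlam : IsIntegral A₀ lam := by
    let g : Fin 4 → A₀ := fun i => ⟨π (φ (X i)), ⟨X i, rfl⟩⟩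
    let cw : Fin 4 → A₀ := fun m => algebraMap K A₀ (w m)
    let c : K := (eval w F)⁻¹
    refine ⟨Polynomial.X ^ 3 + Polynomial.C (c • polar F cw g) * Polynomial.X ^ 2 +
      Polynomial.C (c • polar F g cw) * Polynomial.X + Polynomial.C (c • aeval g F), ?_, ?_⟩
    · monicity!
    · have h := aeval_line D hF (fun m => (g m : P ⧸ I)) w lam
      have hz : (fun m => (g m : P ⧸ I) + lam * algebraMap K (P ⧸ I) (w m)) = fun m => π (X m) := funext fun m => by
        rw [← π.commutes, ← map_mul]
        show π (φ (X m)) + _ = _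
        rw [← map_add]
        congr 1
        show _ = _
        rw [show φ (X _) = _ from aeval_X _ _, MvPolynomial.algebraMap_eq, div_eq_mul_inv, map_mul]
        ring
      rw [hz, ← map_aeval', aeval_X_left_apply, show π F = 0 from
        Ideal.Quotient.eq_zero_iff_mem.2 (Ideal.mem_span_singleton_self F)] at h
      have e1 : ((aeval g F : A₀) : P ⧸ I) = aeval (fun m => (g m : P ⧸ I)) F := map_aeval' A₀.val F g
      have e2 : ((polar F g cw : A₀) : P ⧸ I) = polar F (fun m => (g m : P ⧸ I)) (fun m => algebraMap K (P ⧸ I) (w m)) :=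
        map_polar A₀.val F g cw
      have e3 : ((polar F cw g : A₀) : P ⧸ I) = polar F (fun m => algebraMap K (P ⧸ I) (w m)) (fun m => (g m : P ⧸ I)) :=
        map_polar A₀.val F cw g
      simp only [Polynomial.eval₂_add, Polynomial.eval₂_mul, Polynomial.eval₂_X_pow, Polynomial.eval₂_X,
        Polynomial.eval₂_C]
      simp only [show ∀ x : A₀, algebraMap A₀ (P ⧸ I) x = (x : P ⧸ I) from fun x => rfl, SetLike.val_smul, e1, e2, e3,
        Algebra.smul_def, MulMemClass.coe_mul, Subalgebra.coe_algebraMap]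
      have hc : algebraMap K (P ⧸ I) c * algebraMap K (P ⧸ I) (eval w F) = 1 := by
        rw [← map_mul, inv_mul_cancel₀ hwF, map_one]
      linear_combination -(algebraMap K (P ⧸ I) c) * h - lam ^ 3 * hc
  haveI : Algebra.IsIntegral A₀ (P ⧸ I) := by
    refine ⟨fun x => ?_⟩
    have hX : ∀ i, IsIntegral A₀ (π (X i)) := fun i => by
      have hsplit : π (X i) = π (φ (X i)) + algebraMap K (P ⧸ I) (w i) * lam := by
        rw [← π.commutes, ← map_mul, ← map_add]
        congr 1
        show _ = _
        rw [show φ (X _) = _ from aeval_X _ _, MvPolynomial.algebraMap_eq, div_eq_mul_inv, map_mul]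
        ring
      rw [hsplit]
      refine IsIntegral.add (isIntegral_algebraMap (x := (⟨_, ⟨X i, rfl⟩⟩ : A₀))) (IsIntegral.mul ?_ hlam)
      exact isIntegral_algebraMap (x := algebraMap K A₀ (w i))
    obtain ⟨p, rfl⟩ := Ideal.Quotient.mk_surjective x
    induction p using MvPolynomial.induction_on with
    | C r => exact isIntegral_algebraMap (x := algebraMap K A₀ r)
    | add p q hp hq => rw [map_add]; exact hp.add hq
    | mul_X p i hp => rw [map_mul]; exact hp.mul (hX i)
  have hG0 : π G ≠ 0 := fun h => haG (by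
    obtain ⟨d, hd⟩ := Ideal.mem_span_singleton.1 (Ideal.Quotient.eq_zero_iff_mem.1 h)
    rw [hd, map_mul, haF, zero_mul])
  obtain ⟨⟨r, p, hp⟩, hr, hr0⟩ := Submodule.exists_mem_ne_zero_of_ne_bot
    (Ideal.comap_ne_bot_of_integral_mem (R := A₀) (I := Ideal.span {π G}) hG0 (Ideal.mem_span_singleton_self _)
      (Algebra.IsIntegral.isIntegral _))
  change π (φ p) = r at hp
  obtain ⟨q, hq⟩ := Ideal.mem_span_singleton'.1 (show r ∈ Ideal.span {π G} from hr)
  obtain ⟨q, rfl⟩ := Ideal.Quotient.mk_surjective q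
  have hmem : φ p - q * G ∈ I := Ideal.Quotient.eq.1 (by rw [map_mul]; exact hp.trans hq.symm)
  obtain ⟨d, hd⟩ := Ideal.mem_span_singleton.1 hmem
  refine ⟨φ p, fun h => hr0 (Subtype.ext (by show r = 0; rw [← hp, h, map_zero])), fun y s => ?_, fun x hx hxG => ?_⟩
  · rw [hφ, hφ]
    congr 2
    funext m
    simp
    have : w i₀ ≠ 0 := hi₀
    field_simp
    ring
  · have := congrArg (eval x) hd
    rw [map_sub, map_mul, map_mul, hx, hxG, mul_zero, zero_mul, sub_zero] at this
    exact this

end CubicDeg3
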