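import Groth.Agent.CubicDeg3Lib.Basic
import Mathlib.Algebra.Polynomial.Derivative
import Mathlib.Algebra.Polynomial.Roots
import Mathlib.LinearAlgebra.Matrix.Adjugate

/-!
# Not every point of a smooth cubic surface is a T-point
-/

set_option autoImplicit false
set_option linter.unusedSectionVars false
set_option linter.style.haveILetI false

universe u

open MvPolynomial Module

namespace CubicDeg3

variable {K : Type u} [Field K] [CharZero K] [IsAlgClosed K] {F : MvPolynomial (Fin 4) K}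
  (D : EckardtLib.CubicTensor F)

local notation "V" => Fin 4 → K

/-- A quadratic polynomial from its three values. -/
noncomputable def quadP (A B C₀ : K) : Polynomial K :=
  Polynomial.C A + Polynomial.C B * Polynomial.X + Polynomial.C C₀ * Polynomial.X ^ 2

theorem quadP_eval (A B C₀ t : K) : (quadP A B C₀).eval t = A + B * t + C₀ * t ^ 2 := by simp [quadP]

/-- A symmetric polynomial matrix with zero determinant: the derivative vanishes on the kernel. -/
theorem kernel_derivative {R : Type*} [CommRing R] (M : Matrix (Fin 3) (Fin 3) (Polynomial R)) (hM : M.transpose = M)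
    (hdet : M.det = 0) (j : Fin 3) :
    ∑ i, ∑ l, M.adjugate i j * (Polynomial.derivative (M i l)) * M.adjugate l j = 0 := by
  have hmul : ∀ i, ∑ l, M i l * M.adjugate l j = 0 := fun i => by
    have := congrFun (congrFun (Matrix.mul_adjugate M) i) j
    rw [hdet, zero_smul] at this
    simpa [Matrix.mul_apply] using this
  have hsym : ∀ i l, M i l = M l i := fun i l => by
    conv_lhs => rw [← hM]
    rfl
  have hd : ∀ i, ∑ l, (Polynomial.derivative (M i l) * M.adjugate l j + M i l * Polynomial.derivative (M.adjugate l j)) = 0 :=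
    fun i => by
      have := congrArg Polynomial.derivative (hmul i)
      simpa [Polynomial.derivative_mul] using this
  have h : ∑ i, M.adjugate i j *
      ∑ l, (Polynomial.derivative (M i l) * M.adjugate l j + M i l * Polynomial.derivative (M.adjugate l j)) = 0 :=
    Finset.sum_eq_zero fun i _ => by rw [hd i, mul_zero]
  simp only [Finset.mul_sum, mul_add, Finset.sum_add_distrib] at h
  have h2 : ∑ i, ∑ l, M.adjugate i j * (M i l * Polynomial.derivative (M.adjugate l j)) = 0 := by
    rw [Finset.sum_comm]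
    refine Finset.sum_eq_zero fun l _ => ?_
    rw [show ∑ i, M.adjugate i j * (M i l * Polynomial.derivative (M.adjugate l j)) =
      (∑ i, M l i * M.adjugate i j) * Polynomial.derivative (M.adjugate l j) from by
        rw [Finset.sum_mul]; exact Finset.sum_congr rfl fun i _ => by rw [hsym l i]; ring]
    rw [hmul, zero_mul]
  rw [h2, add_zero] at h
  rw [← h]
  exact Finset.sum_congr rfl fun i _ => Finset.sum_congr rfl fun l _ => by ring

theorem not_smooth_of_plane_quad {e : Fin 4 → V} (hli : LinearIndependent K e) {w : V} {t : K}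
    (hw : w = e 2 + t • e 3) (m : Fin 3 → K) (c : K)
    (h : ∀ y₀ y₁ y₂ : K, eval (y₀ • e 0 + y₁ • e 1 + y₂ • w) F = c * y₂ * (m 0 * y₀ + m 1 * y₁ + m 2 * y₂) ^ 2) :
    ∃ b : V, b ≠ 0 ∧ Sing D b := by
  -- a basis of the line `m = 0` of the plane, as coefficient vectors
  obtain ⟨p, p', hp, hp', hind⟩ : ∃ p p' : Fin 3 → K, ∑ i, m i * p i = 0 ∧ ∑ i, m i * p' i = 0 ∧
      ∀ s r : K, s • p + r • p' = 0 → s = 0 ∧ r = 0 := by
    by_cases h0 : m 0 = 0
    · by_cases h1 : m 1 = 0
      · exact ⟨![1, 0, 0], ![0, 1, 0], by simp [Fin.sum_univ_three, h0], by simp [Fin.sum_univ_three, h1],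
          fun s r e => ⟨by simpa using congrFun e 0, by simpa using congrFun e 1⟩⟩
      · exact ⟨![1, 0, 0], ![0, -m 2, m 1], by simp [Fin.sum_univ_three, h0], by simp [Fin.sum_univ_three]; ring,
          fun s r e => ⟨by simpa using congrFun e 0, by simpa [h1] using congrFun e 2⟩⟩
    · exact ⟨![-m 1, m 0, 0], ![-m 2, 0, m 0], by simp [Fin.sum_univ_three]; ring, by simp [Fin.sum_univ_three]; ring,
        fun s r e => ⟨by simpa [h0] using congrFun e 1, by simpa [h0] using congrFun e 2⟩⟩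
  let ψ : (Fin 3 → K) →ₗ[K] V := (LinearMap.proj 0).smulRight (e 0) + (LinearMap.proj 1).smulRight (e 1) +
    (LinearMap.proj 2).smulRight w
  have hψ : ∀ y : Fin 3 → K, ψ y = y 0 • e 0 + y 1 • e 1 + y 2 • w := fun y => by simp [ψ]
  let bA : Basis (Fin 4) K V := basisOfLinearIndependentOfCardEqFinrank hli (by simp)
  have hbA : ∀ i, bA i = e i := fun i => by simp [bA]
  let φ : V →ₗ[K] K := bA.coord 3 - t • bA.coord 2
  have hφe : ∀ i, φ (e i) = if i = 3 then 1 else if i = 2 then -t else 0 := fun i => by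
    fin_cases i <;> simp [φ, ← hbA]
  have hker : ∀ v, φ v = 0 → ∃ y : Fin 3 → K, v = ψ y := fun v hv => by
    refine ⟨![bA.coord 0 v, bA.coord 1 v, bA.coord 2 v], ?_⟩
    have hs := bA.sum_repr v
    rw [Fin.sum_univ_four, hbA, hbA, hbA, hbA] at hs
    have h3 : bA.coord 3 v = t * bA.coord 2 v := by
      simp [φ] at hv ⊢
      linear_combination hv
    rw [hψ, hw]
    simp only [Matrix.cons_val_zero, Matrix.cons_val_one, Matrix.cons_val, Basis.coord_apply] at hs h3 ⊢
    rw [h3] at hs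
    conv_lhs => rw [← hs]
    module
  refine exists_sing_of_const D (a := ψ p) (c := ψ p') ?_ φ (w₀ := e 3) (by simp [hφe]) fun s r v hv => ?_
  · refine LinearIndependent.pair_iff.2 fun s r e0 => hind s r ?_
    have hinj : ∀ y, ψ y = 0 → y = 0 := fun y hy => by
      rw [hψ, hw] at hy
      have h4 := Fintype.linearIndependent_iff.1 hli ![y 0, y 1, y 2, y 2 * t] (by
        rw [Fin.sum_univ_four, ← hy]; simp; module)
      funext i; fin_cases i
      exacts [h4 0, h4 1, h4 2]
    exact hinj _ (by rw [map_add, map_smul, map_smul, e0])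
  · obtain ⟨y, rfl⟩ := hker v hv
    rw [← map_smul, ← map_smul, ← map_add]
    generalize hz : s • p + r • p' = z
    have hmz : ∑ i, m i * z i = 0 := by
      subst hz
      simp only [Fin.sum_univ_three, Pi.add_apply, Pi.smul_apply, smul_eq_mul] at hp hp' ⊢
      linear_combination s * hp + r * hp'
    rw [Fin.sum_univ_three] at hmz
    have key : ∀ s : K, eval ((1 : K) • ψ z + s • ψ y) F =
        c * (z 2 + s * y 2) * (s * (m 0 * y 0 + m 1 * y 1 + m 2 * y 2)) ^ 2 := fun s => by
      rw [← map_smul, ← map_smul, ← map_add, hψ, h]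
      simp only [Pi.add_apply, Pi.smul_apply, smul_eq_mul, one_mul]
      linear_combination (c * (z 2 + s * y 2) * (m 0 * z 0 + m 1 * z 1 + m 2 * z 2 + 2 * (s * (m 0 * y 0 + m 1 * y 1 + m 2 * y 2)))) * hmz
    have k1 := key 1; have k2 := key (-1); have k3 := key 2; have k0 := key 0
    rw [expand D] at k0 k1 k2 k3
    linear_combination (-1 / 6 : K) * k0 + (1 / 3 : K) * k1 - (1 / 9 : K) * k2 - (1 / 18 : K) * k3

set_option maxHeartbeats 1000000 in
-- the explicit algebra of the residual conics is long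
theorem exists_sing_or_not_isT (hF : F.IsHomogeneous 3) (hF0 : F ≠ 0) :
    (∃ b : V, b ≠ 0 ∧ Sing D b) ∨ ∃ b : V, b ≠ 0 ∧ eval b F = 0 ∧ ¬ CubicPfaff.IsT F b := by
  classical
  by_contra hcon
  push Not at hcon
  obtain ⟨hns, hT⟩ := hcon
  -- a point
  obtain ⟨b₀, hb0, hb0F⟩ : ∃ b : V, b ≠ 0 ∧ eval b F = 0 := by
    by_cases h : eval (Pi.single (0 : Fin 4) (1 : K)) F = 0
    · exact ⟨_, by simp, h⟩
    let u : V := Pi.single 0 1
    let v : V := Pi.single 1 1
    obtain ⟨x, hx⟩ := IsAlgClosed.exists_root (Polynomial.C (D.T u u u) * Polynomial.X ^ 3 +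
        Polynomial.C (3 * D.T u u v) * Polynomial.X ^ 2 + Polynomial.C (3 * D.T u v v) * Polynomial.X +
        Polynomial.C (D.T v v v)) (by
      rw [Polynomial.degree_cubic (by rw [← D.eval_eq]; exact h)]; decide)
    simp only [Polynomial.IsRoot, Polynomial.eval_add, Polynomial.eval_mul, Polynomial.eval_C, Polynomial.eval_pow,
      Polynomial.eval_X] at hx
    refine ⟨x • u + (1 : K) • v, fun h0 => ?_, by rw [expand D]; linear_combination hx⟩
    simpa [u, v] using congrFun h0 1
  -- a line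
  obtain ⟨v₀, hv0, hline⟩ : ∃ v, v ∉ Submodule.span K {b₀} ∧ ∀ s r : K, eval (s • b₀ + r • v) F = 0 := by
    by_contra h
    push Not at h
    exact NoLine.not_isT D ⟨hb0, hb0F, h⟩ (hT b₀ hb0 hb0F)
  obtain ⟨v₁, -, hv1⟩ : ∃ v ∈ (⊤ : Submodule K V), v ∉ Submodule.span K {b₀, v₀} := by
    by_contra h
    push Not at h
    have h1 := Submodule.finrank_mono (h : ⊤ ≤ Submodule.span K {b₀, v₀})
    have h2 : finrank K (Submodule.span K {b₀, v₀}) ≤ 2 := by
      refine (finrank_span_le_card _).trans ?_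
      simpa using Finset.card_le_two
    rw [finrank_top, Module.finrank_fin_fun] at h1
    omega
  obtain ⟨v₂, -, hv2⟩ : ∃ v ∈ (⊤ : Submodule K V), v ∉ Submodule.span K {b₀, v₀, v₁} := by
    by_contra h
    push Not at h
    have h1 := Submodule.finrank_mono (h : ⊤ ≤ Submodule.span K {b₀, v₀, v₁})
    have h2 : finrank K (Submodule.span K {b₀, v₀, v₁}) ≤ 3 := by
      refine (finrank_span_le_card _).trans ?_
      simpa using Finset.card_le_three
    rw [finrank_top, Module.finrank_fin_fun] at h1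
    omega
  let e : Fin 4 → V := Fin.snoc (Fin.snoc (Fin.snoc ![b₀] v₀) v₁) v₂
  have hli : LinearIndependent K e := by
    refine linearIndependent_finSnoc.2 ⟨linearIndependent_finSnoc.2 ⟨linearIndependent_finSnoc.2 ⟨?_, ?_⟩, ?_⟩, ?_⟩
    · exact linearIndependent_unique_iff.2 (by simpa using hb0)
    · simpa using hv0
    · intro hm; refine hv1 (Submodule.span_mono ?_ hm); rintro _ ⟨i, rfl⟩; fin_cases i <;> simp [Fin.snoc]
    · intro hm; refine hv2 (Submodule.span_mono ?_ hm); rintro _ ⟨i, rfl⟩; fin_cases i <;> simp [Fin.snoc]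
  have he0 : e 0 = b₀ := by simp [e, Fin.snoc]
  have he1 : e 1 = v₀ := by simp [e, Fin.snoc]
  have hU : ∀ s r : K, D.T (s • e 0 + r • e 1) (s • e 0 + r • e 1) (e 0) = 0 ∧
      D.T (s • e 0 + r • e 1) (s • e 0 + r • e 1) (e 1) = 0 := by
    rw [he0, he1]
    intro s r
    have hl := hline
    simp only [expand D] at hl
    have t0 := hl 1 0; have t3 := hl 0 1; have tp := hl 1 1; have tm := hl 1 (-1)
    have h000 : D.T b₀ b₀ b₀ = 0 := by linear_combination t0
    have h111 : D.T v₀ v₀ v₀ = 0 := by linear_combination t3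
    have h001 : D.T b₀ b₀ v₀ = 0 := by
      linear_combination (1/6 : K) * tp - (1/6 : K) * tm - (1/3 : K) * t3
    have h011 : D.T b₀ v₀ v₀ = 0 := by
      linear_combination (1/6 : K) * tp + (1/6 : K) * tm - (1/3 : K) * t0
    have h010 : D.T b₀ v₀ b₀ = 0 := by rw [D.swap₂]; exact h001
    have h100 : D.T v₀ b₀ b₀ = 0 := by rw [D.swap₁]; exact h010
    have h101 : D.T v₀ b₀ v₀ = 0 := by rw [D.swap₁]; exact h011
    have h110 : D.T v₀ v₀ b₀ = 0 := by rw [D.swap₂]; exact h101
    simp [h000, h001, h010, h011, h100, h101, h110, h111]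
  -- the matrices of the residual conics
  let w : K → V := fun t => e 2 + t • e 3
  let l2 : Fin 4 → Fin 4 → Polynomial K := fun i j =>
    quadP (3 * D.T (e i) (e j) (e 2)) (3 * D.T (e i) (e j) (e 3)) 0
  let m2 : Fin 4 → Polynomial K := fun i => quadP (3/2 * D.T (e i) (e 2) (e 2)) (3 * D.T (e i) (e 2) (e 3))
    (3/2 * D.T (e i) (e 3) (e 3))
  let M22 : Polynomial K := Polynomial.C (D.T (e 2) (e 2) (e 2)) + Polynomial.C (3 * D.T (e 2) (e 2) (e 3)) * Polynomial.X +
    Polynomial.C (3 * D.T (e 2) (e 3) (e 3)) * Polynomial.X ^ 2 + Polynomial.C (D.T (e 3) (e 3) (e 3)) * Polynomial.X ^ 3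
  let M : Matrix (Fin 3) (Fin 3) (Polynomial K) := !![l2 0 0, l2 0 1, m2 0; l2 0 1, l2 1 1, m2 1; m2 0, m2 1, M22]
  let Mv : K → Matrix (Fin 3) (Fin 3) K := fun t => (Polynomial.evalRingHom t).mapMatrix M
  have hMsym : M.transpose = M := by ext1 i j; fin_cases i <;> fin_cases j <;> rfl
  have hform : ∀ t, ∀ y : Fin 3 → K, ∑ i, ∑ j, y i * Mv t i j * y j =
      3 * D.T (y 0 • e 0 + y 1 • e 1) (y 0 • e 0 + y 1 • e 1) (w t) +
      3 * y 2 * D.T (y 0 • e 0 + y 1 • e 1) (w t) (w t) + y 2 ^ 2 * D.T (w t) (w t) (w t) := by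
    intro t y
    simp [Fin.sum_univ_three, Mv, M, l2, m2, M22, quadP, w]
    simp only [D.swap₁ (e 1) (e 0), D.swap₂ _ (e 3) (e 2), D.swap₁ (e 3) (e 2)]
    ring
  have hcube : ∀ t (y : Fin 3 → K), eval (y 0 • e 0 + y 1 • e 1 + y 2 • w t) F = y 2 * ∑ i, ∑ j, y i * Mv t i j * y j := by
    intro t y
    have h0 := hU (y 0) (y 1)
    rw [hform, show y 0 • e 0 + y 1 • e 1 + y 2 • w t = (1 : K) • (y 0 • e 0 + y 1 • e 1) + y 2 • w t by rw [one_smul], expand D]
    have : D.T (y 0 • e 0 + y 1 • e 1) (y 0 • e 0 + y 1 • e 1) (y 0 • e 0 + y 1 • e 1) = 0 := by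
      rw [map_add, map_smul, map_smul, h0.1, h0.2, smul_zero, smul_zero, add_zero]
    rw [this]
    ring
  -- the determinant vanishes at tangent planes
  have hdet : ∀ t s r : K, (s ≠ 0 ∨ r ≠ 0) → D.T (s • e 0 + r • e 1) (s • e 0 + r • e 1) (w t) = 0 →
      M.det.eval t = 0 := by
    intro t s r hsr htan
    set b := s • e 0 + r • e 1 with hb
    have hbne : b ≠ 0 := fun h => by
      have h4 := Fintype.linearIndependent_iff.1 hli ![s, r, 0, 0] (by rw [Fin.sum_univ_four, ← h, hb]; simp)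
      exact hsr.elim (· (h4 0)) (· (h4 1))
    have hbF : eval b F = 0 := by rw [hb, he0, he1]; exact hline s r
    obtain ⟨f₁, f₂, f₃, hf⟩ := isT_eval D (hT b hbne hbF)
    have hf' : ∀ y : Fin 3 → K, y 2 * ∑ i, ∑ j, y i * Mv t i j * y j =
        (y 0 * f₁ (e 0) + y 1 * f₁ (e 1) + y 2 * f₁ (w t)) * (y 0 * f₂ (e 0) + y 1 * f₂ (e 1) + y 2 * f₂ (w t)) *
          (y 0 * f₃ (e 0) + y 1 * f₃ (e 1) + y 2 * f₃ (w t)) := fun y => by
      rw [← hcube, hf _ (by
        rw [map_add, map_add, map_smul, map_smul, map_smul, htan, hb, (hU s r).1, (hU s r).2]; simp)]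
      simp
    have hprod : ∀ a₀ a₁ : K, f₁ (a₀ • e 0 + a₁ • e 1) * f₂ (a₀ • e 0 + a₁ • e 1) * f₃ (a₀ • e 0 + a₁ • e 1) = 0 :=
      fun a₀ a₁ => by
        have := hf' ![a₀, a₁, 0]
        simp at this
        simpa using this
    have main : ∀ g₁ g₂ g₃ : V →ₗ[K] K, g₁ (e 0) = 0 → g₁ (e 1) = 0 →
        (∀ y : Fin 3 → K, y 2 * ∑ i, ∑ j, y i * Mv t i j * y j =
          (y 0 * g₁ (e 0) + y 1 * g₁ (e 1) + y 2 * g₁ (w t)) * (y 0 * g₂ (e 0) + y 1 * g₂ (e 1) + y 2 * g₂ (w t)) *
            (y 0 * g₃ (e 0) + y 1 * g₃ (e 1) + y 2 * g₃ (w t))) → M.det.eval t = 0 := by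
      intro g₁ g₂ g₃ z0 z1 hg
      set c := g₁ (w t)
      set u₀ := g₂ (e 0); set u₁ := g₂ (e 1); set u₂ := g₂ (w t)
      set x₀ := g₃ (e 0); set x₁ := g₃ (e 1); set x₂ := g₃ (w t)
      have hq : ∀ y : Fin 3 → K, y 2 * (∑ i, ∑ j, y i * Mv t i j * y j -
          c * ((y 0 * u₀ + y 1 * u₁ + y 2 * u₂) * (y 0 * x₀ + y 1 * x₁ + y 2 * x₂))) = 0 := fun y => by
        rw [mul_sub, hg, z0, z1]; ring
      have hv : ∀ a b : K, ∑ i, ∑ j, ![a, b, 1] i * Mv t i j * ![a, b, 1] j -
          c * ((a * u₀ + b * u₁ + u₂) * (a * x₀ + b * x₁ + x₂)) = 0 := fun a b => by simpa using hq ![a, b, 1]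
      have hs01 : Mv t 1 0 = Mv t 0 1 := rfl
      have hs02 : Mv t 2 0 = Mv t 0 2 := rfl
      have hs12 : Mv t 2 1 = Mv t 1 2 := rfl
      simp [Fin.sum_univ_three, hs01, hs02, hs12] at hv
      have v00 := hv 0 0; have v10 := hv 1 0; have vm0 := hv (-1) 0; have v01 := hv 0 1; have v0m := hv 0 (-1)
      have v11 := hv 1 1
      have e22 : Mv t 2 2 = c * (u₂ * x₂) := by linear_combination v00
      have e00 : Mv t 0 0 = c * (u₀ * x₀) := by linear_combination (1/2 : K) * v10 + (1/2 : K) * vm0 - v00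
      have e11 : Mv t 1 1 = c * (u₁ * x₁) := by linear_combination (1/2 : K) * v01 + (1/2 : K) * v0m - v00
      have e02 : Mv t 0 2 = c / 2 * (u₀ * x₂ + u₂ * x₀) := by linear_combination (1/4 : K) * v10 - (1/4 : K) * vm0
      have e12 : Mv t 1 2 = c / 2 * (u₁ * x₂ + u₂ * x₁) := by linear_combination (1/4 : K) * v01 - (1/4 : K) * v0m
      have e01 : Mv t 0 1 = c / 2 * (u₀ * x₁ + u₁ * x₀) := by
        linear_combination (1/2 : K) * (v11 - v10 - v01 + v00)
      rw [← Polynomial.coe_evalRingHom, RingHom.map_det, Matrix.det_fin_three]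
      change Mv t 0 0 * Mv t 1 1 * Mv t 2 2 - Mv t 0 0 * Mv t 1 2 * Mv t 2 1 - Mv t 0 1 * Mv t 1 0 * Mv t 2 2 +
        Mv t 0 1 * Mv t 1 2 * Mv t 2 0 + Mv t 0 2 * Mv t 1 0 * Mv t 2 1 - Mv t 0 2 * Mv t 1 1 * Mv t 2 0 = 0
      rw [hs01, hs02, hs12, e00, e11, e22, e01, e02, e12]
      ring
    -- one of the three forms vanishes on the line
    let U : Submodule K V := Submodule.span K {e 0, e 1}
    have hcov : (U : Set V) ⊆ (LinearMap.ker f₁ : Set V) ∪ (LinearMap.ker f₂) ∪ (LinearMap.ker f₃) := by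
      intro x hx
      obtain ⟨a₀, a₁, rfl⟩ := Submodule.mem_span_pair.1 hx
      rcases mul_eq_zero.1 (hprod a₀ a₁) with h | h
      · rcases mul_eq_zero.1 h with h | h
        · exact Or.inl (Or.inl h)
        · exact Or.inl (Or.inr h)
      · exact Or.inr h
    obtain h | h | h : U ≤ LinearMap.ker f₁ ∨ U ≤ LinearMap.ker f₂ ∨ U ≤ LinearMap.ker f₃ := by
      by_contra hne
      push Not at hne
      obtain ⟨⟨n₁, n₁U, n₁f⟩, ⟨n₂, n₂U, n₂f⟩, ⟨n₃, n₃U, n₃f⟩⟩ :=
        And.intro (SetLike.not_le_iff_exists.1 hne.1) (And.intro (SetLike.not_le_iff_exists.1 hne.2.1) (SetLike.not_le_iff_exists.1 hne.2.2))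
      rw [LinearMap.mem_ker] at n₁f n₂f n₃f
      let R : Polynomial K := quadP (f₁ n₁) (f₁ n₂) (f₁ n₃) * quadP (f₂ n₁) (f₂ n₂) (f₂ n₃) * quadP (f₃ n₁) (f₃ n₂) (f₃ n₃)
      haveI : Infinite K := Infinite.of_injective (fun n : ℕ => (n : K)) Nat.cast_injective
      have hR : R = 0 := Polynomial.funext fun x => by
        have hmem : n₁ + x • n₂ + x ^ 2 • n₃ ∈ U := add_mem (add_mem n₁U (U.smul_mem _ n₂U)) (U.smul_mem _ n₃U)
        rw [Polynomial.eval_zero]
        simp only [R, Polynomial.eval_mul, quadP_eval]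
        have hz : ∀ g : V →ₗ[K] K, g n₁ + g n₂ * x + g n₃ * x ^ 2 = g (n₁ + x • n₂ + x ^ 2 • n₃) := fun g => by
          simp; ring
        rw [hz, hz, hz]
        rcases hcov hmem with (h | h) | h <;> simp [LinearMap.mem_ker.1 h]
      rcases mul_eq_zero.1 hR with h | h
      · rcases mul_eq_zero.1 h with h | h
        · have := congrArg (fun p => Polynomial.coeff p 0) h; simp [quadP] at this; exact n₁f this
        · have := congrArg (fun p => Polynomial.coeff p 1) h; simp [quadP, Polynomial.coeff_X_pow, Polynomial.coeff_C] at this; exact n₂f this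
      · have := congrArg (fun p => Polynomial.coeff p 2) h; simp [quadP, Polynomial.coeff_X, Polynomial.coeff_C] at this; exact n₃f this
    · exact main f₁ f₂ f₃ (h (Submodule.subset_span (by simp))) (h (Submodule.subset_span (by simp))) hf'
    · exact main f₂ f₁ f₃ (h (Submodule.subset_span (by simp))) (h (Submodule.subset_span (by simp))) fun y => by rw [hf' y]; ring
    · exact main f₃ f₁ f₂ (h (Submodule.subset_span (by simp))) (h (Submodule.subset_span (by simp))) fun y => by rw [hf' y]; ring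
  -- the two restrictions of the gradient to the line
  let Q : Fin 4 → Polynomial K := fun i => quadP (D.T (e 0) (e 0) (e i)) (2 * D.T (e 0) (e 1) (e i)) (D.T (e 1) (e 1) (e i))
  have hQ : ∀ i x, (Q i).eval x = D.T ((1 : K) • e 0 + x • e 1) ((1 : K) • e 0 + x • e 1) (e i) := fun i x => by
    simp [Q, quadP, D.swap₁ (e 1) (e 0)]; ring
  have hconst : ∀ t, (Q 2 + Polynomial.C t * Q 3 = 0) → False := by
    intro t ht
    have c0 := congrArg (fun p => Polynomial.coeff p 0) ht
    have c1 := congrArg (fun p => Polynomial.coeff p 1) ht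
    have c2 := congrArg (fun p => Polynomial.coeff p 2) ht
    simp [Q, quadP, Polynomial.coeff_C, Polynomial.coeff_X, Polynomial.coeff_X_pow] at c0 c1 c2
    let bA : Basis (Fin 4) K V := basisOfLinearIndependentOfCardEqFinrank hli (by simp)
    have hbA : ∀ i, bA i = e i := fun i => by simp [bA]
    obtain ⟨b, hb, hbS⟩ := exists_sing_of_const D (a := e 0) (c := e 1)
      (LinearIndependent.pair_iff.2 fun s r h => by
        have h4 := Fintype.linearIndependent_iff.1 hli ![s, r, 0, 0] (by rw [Fin.sum_univ_four, ← h]; simp)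
        exact ⟨h4 0, h4 1⟩)
      (bA.coord 3 - t • bA.coord 2) (w₀ := e 3) (by simp [← hbA]) (fun s r v hv => by
        simp [Basis.coord_apply] at hv
        rw [← bA.sum_repr v, Fin.sum_univ_four, hbA, hbA, hbA, hbA, map_add, map_add, map_add, map_smul, map_smul,
          map_smul _ (bA.repr v 2), map_smul _ (bA.repr v 3), (hU s r).1, (hU s r).2]
        simp only [map_add, map_smul, LinearMap.add_apply, LinearMap.smul_apply, smul_eq_mul, D.swap₁ (e 1) (e 0)]
        linear_combination (D.T (e 0) (e 0) (e 3) * s ^ 2 + 2 * (s * r) * D.T (e 0) (e 1) (e 3) + r ^ 2 * D.T (e 1) (e 1) (e 3)) * hv +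
          bA.repr v 2 * (s ^ 2 * c0 + r ^ 2 * c2) + bA.repr v 2 * (s * r) * c1)
    exact hns b hb hbS
  have hdet0 : M.det = 0 := by
    by_contra hne
    haveI : Infinite K := Infinite.of_injective (fun n : ℕ => (n : K)) Nat.cast_injective
    have hprod : Q 3 * ∏ t ∈ M.det.roots.toFinset, (Q 2 + Polynomial.C t * Q 3) = 0 := by
      refine Polynomial.funext fun x => ?_
      rw [Polynomial.eval_zero, Polynomial.eval_mul, Polynomial.eval_prod]
      by_cases h3 : (Q 3).eval x = 0
      · rw [h3, zero_mul]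
      · have htan : D.T ((1 : K) • e 0 + x • e 1) ((1 : K) • e 0 + x • e 1) (w (-(Q 2).eval x / (Q 3).eval x)) = 0 := by
          rw [show w _ = _ + _ • _ from rfl, map_add, map_smul, ← hQ 2, ← hQ 3, smul_eq_mul]
          field_simp
          ring
        have hroot := hdet _ 1 x (Or.inl one_ne_zero) htan
        rw [Finset.prod_eq_zero (Multiset.mem_toFinset.2 ((Polynomial.mem_roots hne).2 hroot))
          (by simp; field_simp; ring), mul_zero]
    rcases mul_eq_zero.1 hprod with h | h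
    · -- the planes through the line all touch at the point `e 2` side
      let bA : Basis (Fin 4) K V := basisOfLinearIndependentOfCardEqFinrank hli (by simp)
      have hbA : ∀ i, bA i = e i := fun i => by simp [bA]
      have c0 := congrArg (fun p => Polynomial.coeff p 0) h
      have c1 := congrArg (fun p => Polynomial.coeff p 1) h
      have c2 := congrArg (fun p => Polynomial.coeff p 2) h
      simp [Q, quadP, Polynomial.coeff_C, Polynomial.coeff_X, Polynomial.coeff_X_pow] at c0 c1 c2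
      obtain ⟨b, hb, hbS⟩ := exists_sing_of_const D (a := e 0) (c := e 1)
        (LinearIndependent.pair_iff.2 fun s r h => by
          have h4 := Fintype.linearIndependent_iff.1 hli ![s, r, 0, 0] (by rw [Fin.sum_univ_four, ← h]; simp)
          exact ⟨h4 0, h4 1⟩)
        (bA.coord 2) (w₀ := e 2) (by simp [← hbA]) (fun s r v hv => by
          simp [Basis.coord_apply] at hv
          rw [← bA.sum_repr v, Fin.sum_univ_four, hbA, hbA, hbA, hbA, map_add, map_add, map_add, map_smul, map_smul,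
            map_smul _ (bA.repr v 2), map_smul _ (bA.repr v 3), (hU s r).1, (hU s r).2]
          simp only [map_add, map_smul, LinearMap.add_apply, LinearMap.smul_apply, smul_eq_mul, D.swap₁ (e 1) (e 0), hv]
          linear_combination (bA.repr v 3 * s ^ 2) * c0 + (bA.repr v 3 * r ^ 2) * c2 + (2 * bA.repr v 3 * (s * r)) * c1)
      exact hns b hb hbS
    · obtain ⟨t, -, ht⟩ := Finset.prod_eq_zero_iff.1 h
      exact hconst t ht
  -- a point of rank two
  let Ad := (Mv 0).adjugate
  by_cases hA : Ad = 0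
  · -- rank at most one: a double line
    have hs01 : Mv 0 1 0 = Mv 0 0 1 := rfl
    have hs02 : Mv 0 2 0 = Mv 0 0 2 := rfl
    have hs12 : Mv 0 2 1 = Mv 0 1 2 := rfl
    have a00 := congrFun (congrFun hA 0) 0
    have a11 := congrFun (congrFun hA 1) 1
    have a22 := congrFun (congrFun hA 2) 2
    have a01 := congrFun (congrFun hA 0) 1
    have a02 := congrFun (congrFun hA 0) 2
    have a12 := congrFun (congrFun hA 1) 2
    simp [Ad, Matrix.adjugate_fin_three, hs01, hs02, hs12] at a00 a11 a22 a01 a02 a12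
    have key : ∃ (c : K) (m : Fin 3 → K), ∀ y : Fin 3 → K,
        ∑ i, ∑ j, y i * Mv 0 i j * y j = c * (m 0 * y 0 + m 1 * y 1 + m 2 * y 2) ^ 2 := by
      by_cases h0 : Mv 0 0 0 = 0
      · have z01 : Mv 0 0 1 = 0 := pow_eq_zero_iff (n := 2) two_ne_zero |>.1 (by rw [h0] at a22; linear_combination -a22)
        have z02 : Mv 0 0 2 = 0 := pow_eq_zero_iff (n := 2) two_ne_zero |>.1 (by rw [h0] at a11; linear_combination -a11)
        by_cases h1 : Mv 0 1 1 = 0
        · have z12 : Mv 0 1 2 = 0 := pow_eq_zero_iff (n := 2) two_ne_zero |>.1 (by rw [h1] at a00; linear_combination -a00)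
          exact ⟨Mv 0 2 2, ![0, 0, 1], fun y => by simp [Fin.sum_univ_three, hs01, hs02, hs12, h0, h1, z01, z02, z12]; ring⟩
        · refine ⟨(Mv 0 1 1)⁻¹, ![0, Mv 0 1 1, Mv 0 1 2], fun y => ?_⟩
          simp [Fin.sum_univ_three, hs01, hs02, hs12, h0, z01, z02]
          field_simp
          linear_combination (y 2 ^ 2) * a00
      · refine ⟨(Mv 0 0 0)⁻¹, ![Mv 0 0 0, Mv 0 0 1, Mv 0 0 2], fun y => ?_⟩
        simp [Fin.sum_univ_three, hs01, hs02, hs12]
        field_simp
        linear_combination (y 1 ^ 2) * a22 + (y 2 ^ 2) * a11 - (2 * y 1 * y 2) * a12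
    obtain ⟨c, m, hm⟩ := key
    obtain ⟨b, hb, hbS⟩ := not_smooth_of_plane_quad D hli (w := w 0) rfl m c fun y₀ y₁ y₂ => by
      have := hcube 0 ![y₀, y₁, y₂]
      rw [hm] at this
      simp at this
      rw [this]; ring
    exact hns b hb hbS
  · obtain ⟨i₀, j₀, hA'⟩ : ∃ i j, Ad i j ≠ 0 := by
      by_contra h; push Not at h; exact hA (by ext i j; exact h i j)
    have hk := congrArg (Polynomial.eval 0) (kernel_derivative M hMsym hdet0 j₀)
    let y : Fin 3 → K := fun i => Ad i j₀
    have hadj : ∀ i j, (M.adjugate i j).eval 0 = Ad i j := fun i j => by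
      have := congrFun (congrFun (RingHom.map_adjugate (Polynomial.evalRingHom (0 : K)) M) i) j
      simpa [Ad, Mv] using this
    have hy0 : ∀ i, ∑ l, Mv 0 i l * y l = 0 := fun i => by
      have hd : (Mv 0).det = 0 := by
        simp only [Mv, ← RingHom.map_det, hdet0, map_zero]
      have := congrFun (congrFun (Matrix.mul_adjugate (Mv 0)) i) j₀
      rw [hd, zero_smul] at this
      simpa [Matrix.mul_apply, y, Ad] using this
    have q0 := hy0 0; have q1 := hy0 1; have q2 := hy0 2
    simp [Fin.sum_univ_three, Mv, M, l2, m2, M22, quadP] at q0 q1 q2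
    simp only [Polynomial.eval_finsetSum, Polynomial.eval_mul, hadj] at hk
    simp [Fin.sum_univ_three, M, l2, m2, M22, quadP, Polynomial.derivative_pow] at hk
    set A := y 0 • e 0 + y 1 • e 1 with hAdef
    let b := A + y 2 • w 0
    refine hns b (fun hb => ?_) ?_
    · have h4 := Fintype.linearIndependent_iff.1 hli ![y 0, y 1, y 2, 0] (by
        rw [Fin.sum_univ_four, ← hb]; simp [b, A, w])
      apply hA'
      rcases (by omega : i₀ = 0 ∨ i₀ = 1 ∨ i₀ = 2) with rfl | rfl | rfl
      exacts [h4 0, h4 1, h4 2]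
    · have hb3 : D.T b b (e 3) = 0 := by
        simp [b, A, w, D.swap₁ (e 1) (e 0), D.swap₁ (e 2) (e 0), D.swap₁ (e 2) (e 1)]
        linear_combination (1 / 3 : K) * hk
      have hU' := hU (y 0) (y 1)
      have t000 := (hU 1 0).1; have t001 := (hU 1 0).2; have t110 := (hU 0 1).1; have t111 := (hU 0 1).2
      simp at t000 t001 t110 t111
      have t010 : D.T (e 0) (e 1) (e 0) = 0 := by rw [D.swap₂]; exact t001
      have t011 : D.T (e 0) (e 1) (e 1) = 0 := by rw [D.swap₁, D.swap₂]; exact t110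
      have hb0 : D.T b b (e 0) = 0 := by
        simp [b, A, w, D.swap₁ (e 1) (e 0), D.swap₁ (e 2) (e 0), D.swap₁ (e 2) (e 1), D.swap₂ _ (e 2) (e 0),
          D.swap₂ _ (e 2) (e 1), D.swap₂ _ (e 1) (e 0), t000, t001, t010, t011, t110, t111]
        linear_combination (2 / 3 * y 2) * q0
      have hb1 : D.T b b (e 1) = 0 := by
        simp [b, A, w, D.swap₁ (e 1) (e 0), D.swap₁ (e 2) (e 0), D.swap₁ (e 2) (e 1), D.swap₂ _ (e 2) (e 0),
          D.swap₂ _ (e 2) (e 1), D.swap₂ _ (e 1) (e 0), t000, t001, t010, t011, t110, t111]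
        linear_combination (2 / 3 * y 2) * q1
      have hb2 : D.T b b (e 2) = 0 := by
        simp [b, A, w, D.swap₁ (e 1) (e 0), D.swap₁ (e 2) (e 0), D.swap₁ (e 2) (e 1), D.swap₂ _ (e 2) (e 0),
          D.swap₂ _ (e 2) (e 1), D.swap₂ _ (e 1) (e 0), t000, t001, t010, t011, t110, t111]
        linear_combination (1 / 3 * y 0) * q0 + (1 / 3 * y 1) * q1 + y 2 * q2
      intro v
      let bA : Basis (Fin 4) K V := basisOfLinearIndependentOfCardEqFinrank hli (by simp)
      have hbA : ∀ i, bA i = e i := fun i => by simp [bA]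
      rw [← bA.sum_repr v, Fin.sum_univ_four, hbA, hbA, hbA, hbA]
      simp only [map_add, map_smul, hb0, hb1, hb2, hb3, smul_eq_mul, mul_zero, add_zero]

end CubicDeg3
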